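import Groth.Agent.Lib.PunctHilb18.Line
import Mathlib.RingTheory.Ideal.AssociatedPrime.Basic
import Mathlib.RingTheory.FiniteType
import Mathlib.Algebra.BigOperators.Fin

/-!
# Coordinates of subschemes with one point more
-/

set_option autoImplicit false
set_option linter.unusedSectionVars false
set_option linter.style.haveILetI false

universe u

open scoped TensorProduct

namespace Groth.Agent.HilbConn18

open Groth.Agent.HilbRep25 Groth.Agent.HilbProj18 Groth.Agent.PunctHilb18

variable {k C R : Type u} [Field k] [CommRing C] [Algebra k C] [CommRing R] [Algebra k R] {n : ℕ}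

/-- Coordinates define the same ideal as soon as they convert into each other. -/
theorem coordIdeal_le {β β' : Fin n → C} {x x' : C → Fin n → R} (hx' : IsCoord k β' x')
    (h : ∀ c i, x' c i = ∑ q, x c q * x' (β q) i) : coordIdeal (A := k) β x ≤ coordIdeal (A := k) β' x' := by
  refine Ideal.span_le.2 ?_
  rintro _ ⟨c, rfl⟩
  show _ ∈ coordIdeal β' x'
  rw [← Ideal.Quotient.eq_zero_iff_mem, map_sub, map_sum, sub_eq_zero, mk_one_tmul (A := k) (β := β') (x := x') c]
  have h1 : ∀ q, Ideal.Quotient.mk (coordIdeal β' x') (x c q ⊗ₜ[k] β q) =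
      x c q • Ideal.Quotient.mk (coordIdeal β' x') ((1 : R) ⊗ₜ[k] β q) := fun q => by
    show _ = Ideal.Quotient.mk _ (x c q • ((1 : R) ⊗ₜ[k] β q))
    rw [TensorProduct.smul_tmul', smul_eq_mul, mul_one]
  simp only [h1, mk_one_tmul (A := k) (β := β') (x := x') (β _), Finset.smul_sum, smul_smul]
  rw [Finset.sum_comm]
  exact Finset.sum_congr rfl fun i _ => by rw [← Finset.sum_smul, ← h]

/-- Coordinates over the ground field with the same ideal define the same subscheme. -/
theorem coordIdeal_eq_of_idealOf {β β' : Fin n → C} {x x' : C → Fin n → k} (hx : IsCoord k β x)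
    (hx' : IsCoord k β' x') (h : idealOf hx = idealOf hx') :
    coordIdeal (A := k) β x = coordIdeal (A := k) β' x' := by
  have key : ∀ {β β' : Fin n → C} {x x' : C → Fin n → k} (hx : IsCoord k β x) (hx' : IsCoord k β' x'),
      idealOf hx ≤ idealOf hx' → coordIdeal (A := k) β x ≤ coordIdeal (A := k) β' x' := by
    intro β β' x x' hx hx' hle
    refine coordIdeal_le hx' fun c i => ?_
    have h1 : lin hx' (c - ∑ q, x c q • β q) = 0 := hle (sub_mem_idealOf hx c)
    rw [map_sub, map_sum, sub_eq_zero] at h1
    have h2 := congrFun h1 i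
    simp only [map_smul, Finset.sum_apply, Pi.smul_apply, smul_eq_mul] at h2
    exact h2
  exact le_antisymm (key hx hx' h.le) (key hx' hx h.ge)

/-- The coordinates of a subscheme together with one more point. -/
noncomputable def prodX (β : Fin n → C) (xU : C → Fin n → R) (ev : C →ₐ[k] R) (e : C) (u : R) :
    C → Fin (n + 1) → R := fun c =>
  let μ := u * (ev c - ∑ i, xU c i * ev (β i))
  Fin.snoc (fun i => xU c i - μ * xU e i) μ

section prod

variable {β : Fin n → C} {xU : C → Fin n → R} (hU : IsCoord k β xU) (ev : C →ₐ[k] R) (e : C) (u : R)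

theorem prodX_first (c : C) (i : Fin n) : prodX β xU ev e u c i.castSucc =
    xU c i - prodX β xU ev e u c (Fin.last n) * xU e i := by
  simp [prodX]

theorem prodX_last (c : C) : prodX β xU ev e u c (Fin.last n) = u * (ev c - ∑ i, xU c i * ev (β i)) := by
  simp [prodX]

include hU in
/-- The two components are recovered linearly. -/
theorem prod_recover (hu : u * (ev e - ∑ i, xU e i * ev (β i)) = 1) (c : C) :
    (∀ i, ∑ q, prodX β xU ev e u c q * xU ((Fin.snoc β e : Fin (n + 1) → C) q) i = xU c i) ∧
      ∑ q, prodX β xU ev e u c q * ev ((Fin.snoc β e : Fin (n + 1) → C) q) = ev c := by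
  refine ⟨fun i => ?_, ?_⟩
  · simp [Fin.sum_univ_castSucc, hU.unit, prodX_first]
  · simp only [Fin.sum_univ_castSucc, Fin.snoc_castSucc, Fin.snoc_last, prodX_first, sub_mul,
      Finset.sum_sub_distrib, mul_assoc, ← Finset.mul_sum]
    rw [prodX_last]
    linear_combination (ev c - ∑ i, xU c i * ev (β i)) * hu

include hU in
theorem isCoord_prod (hu : u * (ev e - ∑ i, xU e i * ev (β i)) = 1) :
    IsCoord k (Fin.snoc β e : Fin (n + 1) → C) (prodX β xU ev e u) where
  add b c := by
    intro i
    induction i using Fin.lastCases with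
    | last => simp [prodX_last, hU.add, add_mul, Finset.sum_add_distrib]; ring
    | cast i => simp [prodX_first, prodX_last, hU.add, add_mul, Finset.sum_add_distrib]; ring
  smul a c := by
    intro i
    induction i using Fin.lastCases with
    | last =>
      simp only [prodX_last, hU.smul, map_smul]
      simp only [Algebra.smul_def, mul_assoc, ← Finset.mul_sum]; ring
    | cast i =>
      simp only [prodX_first, prodX_last, hU.smul, map_smul]
      simp only [Algebra.smul_def, mul_assoc, ← Finset.mul_sum]; ring
  unit j := by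
    intro i
    induction j using Fin.lastCases with
    | last =>
      induction i using Fin.lastCases with
      | last => simpa [prodX_last] using hu
      | cast i => simp [prodX_first, prodX_last, hu, (Fin.castSucc_lt_last i).ne']
    | cast j =>
      induction i using Fin.lastCases with
      | last => simp [prodX_last, hU.unit, (Fin.castSucc_lt_last j).ne]
      | cast i => simp [prodX_first, prodX_last, hU.unit]
  mul b c := by
    have hb := prod_recover hU ev e u hu b
    have hq := fun q => prod_recover hU ev e u hu ((Fin.snoc β e : Fin (n + 1) → C) q * c)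
    have hbc := prod_recover hU ev e u hu (b * c)
    let S : Fin (n + 1) → R := fun i =>
      ∑ q, prodX β xU ev e u b q * prodX β xU ev e u ((Fin.snoc β e : Fin (n + 1) → C) q * c) i
    let P : (Fin (n + 1) → R) → Fin n → R := fun v i => ∑ q, v q * xU ((Fin.snoc β e : Fin (n + 1) → C) q) i
    let E : (Fin (n + 1) → R) → R := fun v => ∑ q, v q * ev ((Fin.snoc β e : Fin (n + 1) → C) q)
    have hPS : ∀ i, P S i = xU (b * c) i := fun i => by
      calc P S i = ∑ q, prodX β xU ev e u b q * xU ((Fin.snoc β e : Fin (n + 1) → C) q * c) i := by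
            simp only [P, S, Finset.sum_mul]
            rw [Finset.sum_comm]
            refine Finset.sum_congr rfl fun q _ => ?_
            rw [← (hq q).1 i, Finset.mul_sum]
            exact Finset.sum_congr rfl fun r _ => mul_assoc _ _ _
        _ = xU (b * c) i := by
            rw [hU.mul b c i]
            rw [Finset.sum_congr rfl fun q _ => congrArg (_ * ·) (hU.mul _ c i)]
            simp only [Finset.mul_sum]
            rw [Finset.sum_comm]
            refine Finset.sum_congr rfl fun l _ => ?_
            rw [← hb.1 l, Finset.sum_mul]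
            exact Finset.sum_congr rfl fun r _ => (mul_assoc _ _ _).symm
    have hES : E S = ev (b * c) := by
      calc E S = ∑ q, prodX β xU ev e u b q * ev ((Fin.snoc β e : Fin (n + 1) → C) q * c) := by
            simp only [E, S, Finset.sum_mul]
            rw [Finset.sum_comm]
            refine Finset.sum_congr rfl fun q _ => ?_
            rw [← (hq q).2, Finset.mul_sum]
            exact Finset.sum_congr rfl fun r _ => mul_assoc _ _ _
        _ = ev (b * c) := by
            simp only [map_mul, ← mul_assoc, ← Finset.sum_mul]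
            rw [hb.2]
    have inj : ∀ v w : Fin (n + 1) → R, (∀ i, P v i = P w i) → E v = E w → v = w := by
      intro v w h1 h2
      have hPv : ∀ (v : Fin (n + 1) → R) i, P v i = v i.castSucc + v (Fin.last n) * xU e i := fun v i => by
        simp [P, Fin.sum_univ_castSucc, hU.unit]
      have hEv : ∀ (v : Fin (n + 1) → R), E v =
          ∑ i, P v i * ev (β i) + v (Fin.last n) * (ev e - ∑ i, xU e i * ev (β i)) := fun v => by
        simp only [hPv, add_mul, Finset.sum_add_distrib, mul_assoc, ← Finset.mul_sum]
        simp only [E, Fin.sum_univ_castSucc, Fin.snoc_castSucc, Fin.snoc_last]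
        ring
      rw [hEv v, hEv w] at h2
      simp only [h1] at h2
      have hl : v (Fin.last n) = w (Fin.last n) := by
        linear_combination u * h2 - v (Fin.last n) * hu + w (Fin.last n) * hu
      funext i
      induction i using Fin.lastCases with
      | last => exact hl
      | cast i => linear_combination (hPv v i).symm + h1 i + hPv w i - xU e i * hl
    exact fun i => congrFun (inj _ S (fun i => (hbc.1 i).trans (hPS i).symm) (hbc.2.trans hES.symm)) i

include hU in
theorem prodX_eq_zero_iff (hu : u * (ev e - ∑ i, xU e i * ev (β i)) = 1) (c : C) :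
    prodX β xU ev e u c = 0 ↔ xU c = 0 ∧ ev c = 0 := by
  refine ⟨fun h => ?_, fun ⟨h1, h2⟩ => funext fun i => ?_⟩
  · obtain ⟨r1, r2⟩ := prod_recover hU ev e u hu c
    simp only [h, Pi.zero_apply, zero_mul, Finset.sum_const_zero] at r1 r2
    exact ⟨funext fun i => (r1 i).symm, r2.symm⟩
  · induction i using Fin.lastCases with
    | last => simp [prodX_last, h1, h2]
    | cast i => simp [prodX_first, prodX_last, h1, h2]

include hU in
/-- The subscheme does not depend on the auxiliary element. -/
theorem coordIdeal_prodX_eq (hu : u * (ev e - ∑ i, xU e i * ev (β i)) = 1) (e' : C) (u' : R)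
    (hu' : u' * (ev e' - ∑ i, xU e' i * ev (β i)) = 1) :
    coordIdeal (A := k) (Fin.snoc β e : Fin (n + 1) → C) (prodX β xU ev e u) =
      coordIdeal (A := k) (Fin.snoc β e' : Fin (n + 1) → C) (prodX β xU ev e' u') := by
  have key : ∀ (e e' : C) (u u' : R), u * (ev e - ∑ i, xU e i * ev (β i)) = 1 →
      u' * (ev e' - ∑ i, xU e' i * ev (β i)) = 1 →
      coordIdeal (A := k) (Fin.snoc β e : Fin (n + 1) → C) (prodX β xU ev e u) ≤
      coordIdeal (A := k) (Fin.snoc β e' : Fin (n + 1) → C) (prodX β xU ev e' u') := by
    intro e e' u u' hu hu'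
    refine coordIdeal_le (isCoord_prod hU ev e' u' hu') fun c i => ?_
    obtain ⟨r1, r2⟩ := prod_recover hU ev e u hu c
    have hlast : prodX β xU ev e' u' c (Fin.last n) =
        ∑ q, prodX β xU ev e u c q * prodX β xU ev e' u' ((Fin.snoc β e : Fin (n + 1) → C) q) (Fin.last n) := by
      simp only [prodX_last, mul_sub, Finset.mul_sum, Finset.sum_sub_distrib]
      rw [Finset.sum_comm]
      congr 1
      · rw [← r2, Finset.mul_sum]
        exact Finset.sum_congr rfl fun q _ => by ring
      · refine Finset.sum_congr rfl fun l _ => ?_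
        rw [← r1 l, Finset.sum_mul, Finset.mul_sum]
        exact Finset.sum_congr rfl fun q _ => by ring
    induction i using Fin.lastCases with
    | last => exact hlast
    | cast i =>
      simp only [prodX_first, mul_sub, Finset.sum_sub_distrib, r1 i]
      congr 1
      rw [hlast, Finset.sum_mul]
      exact Finset.sum_congr rfl fun q _ => mul_assoc _ _ _
  exact le_antisymm (key e e' u u' hu hu') (key e' e u' u hu' hu)

end prod

/-- The coordinates of an extension by a linear form. -/
noncomputable def lineX (xQ : C → Fin n → k) (lam : C →ₗ[k] R) : C → Fin (n + 1) → R := fun c =>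
  Fin.snoc (fun i => algebraMap k R (xQ c i)) (lam c)

/-- The condition on a linear form. -/
structure IsForm (β : Fin n → C) (xQ : C → Fin n → k) (evk : C →ₐ[k] k) (e : C) (lam : C →ₗ[k] R) : Prop where
  base : ∀ i, lam (β i) = 0
  one : lam e = 1
  mul : ∀ b, xQ b = 0 → ∀ c, lam (b * c) = algebraMap k R (evk c) * lam b

theorem IsForm.smul_eval {β : Fin n → C} {xQ : C → Fin n → k} {evk : C →ₐ[k] k} {e : C} {lam : C →ₗ[k] R}
    (h : IsForm β xQ evk e lam) {R' : Type u} [CommRing R'] [Algebra k R'] (g : R →ₐ[k] R') :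
    IsForm β xQ evk e (g.toLinearMap.comp lam) where
  base i := by simp [h.base]
  one := by simp [h.one]
  mul b hb c := by simp [h.mul b hb c]

theorem lineX_map (xQ : C → Fin n → k) (lam : C →ₗ[k] R) {R' : Type u} [CommRing R'] [Algebra k R']
    (g : R →ₐ[k] R') : (fun c i => g (lineX xQ lam c i)) = lineX xQ (g.toLinearMap.comp lam) := by
  funext c i
  induction i using Fin.lastCases with
  | last => simp [lineX]
  | cast i => simp [lineX]

theorem isCoord_line {β : Fin n → C} {xQ : C → Fin n → k} (hQ : IsCoord k β xQ) {evk : C →ₐ[k] k} {e : C}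
    (he : xQ e = 0) {lam : C →ₗ[k] R} (h : IsForm β xQ evk e lam) :
    IsCoord k (Fin.snoc β e : Fin (n + 1) → C) (lineX xQ lam) where
  add b c := by
    intro i
    induction i using Fin.lastCases with
    | last => simp [lineX]
    | cast i => simp [lineX, hQ.add]
  smul a c := by
    intro i
    induction i using Fin.lastCases with
    | last => simp only [lineX, Fin.snoc_last, map_smul]; exact Algebra.smul_def _ _
    | cast i => simp [lineX, hQ.smul]
  unit j := by
    intro i
    induction j using Fin.lastCases with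
    | last =>
      induction i using Fin.lastCases with
      | last => simp [lineX, h.one]
      | cast i => simp [lineX, he, (Fin.castSucc_lt_last i).ne']
    | cast j =>
      induction i using Fin.lastCases with
      | last => simp [lineX, h.base, (Fin.castSucc_lt_last j).ne]
      | cast i => simp [lineX, hQ.unit, apply_ite (algebraMap k R)]
  mul b c := by
    have hb0 : xQ (b - ∑ q, xQ b q • β q) = 0 := sub_mem_idealOf hQ b
    have hec : ∀ i, xQ (e * c) i = 0 := fun i => by
      rw [hQ.mul]
      simp [he]
    intro i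
    induction i using Fin.lastCases with
    | last =>
      have h1 : lam (b * c) = algebraMap k R (evk c) * lam b + ∑ q, algebraMap k R (xQ b q) * lam (β q * c) := by
        have h2 : b * c = (b - ∑ q, xQ b q • β q) * c + ∑ q, xQ b q • (β q * c) := by
          simp [sub_mul, Finset.sum_mul, smul_mul_assoc]
        have h3 : lam (b - ∑ q, xQ b q • β q) = lam b := by simp [h.base]
        rw [h2, map_add, h.mul _ hb0, h3, map_sum]
        simp only [map_smul]
        simp only [Algebra.smul_def]
      have h4 : lam (e * c) = algebraMap k R (evk c) := by rw [h.mul e he c, h.one, mul_one]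
      simp only [lineX, Fin.sum_univ_castSucc, Fin.snoc_last, Fin.snoc_castSucc]
      rw [h1, h4]
      ring
    | cast i =>
      simp [lineX, Fin.sum_univ_castSucc, hec i, hQ.mul b c i, map_sum]

/-- An ideal of finite colength has coordinates. -/
theorem exists_coord_of_ideal (I : Ideal C) [Module.Finite k (C ⧸ I)] (h : Module.finrank k (C ⧸ I) = n) :
    ∃ (β : Fin n → C) (x : C → Fin n → k) (hx : IsCoord k β x), idealOf hx = I := by
  let b : Module.Basis (Fin n) k (C ⧸ I) := Module.finBasisOfFinrankEq k (C ⧸ I) h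
  choose β hβ using fun i => Ideal.Quotient.mkₐ_surjective k I (b i)
  refine ⟨β, _, isCoord_repr (β := β) (Ideal.Quotient.mkₐ k I) b fun i => (hβ i).symm, ?_⟩
  ext c
  rw [mem_idealOf, ← Ideal.Quotient.eq_zero_iff_mem]
  refine ⟨fun h => b.repr.injective (Finsupp.ext fun i => ?_), fun h => funext fun i => ?_⟩
  · simpa using congrFun h i
  · simp [show (Ideal.Quotient.mkₐ k I) c = 0 from h]

/-- The quotient by the ideal of a point. -/
theorem finite_quotient {β : Fin n → C} {x : C → Fin n → k} (hx : IsCoord k β x) :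
    Module.Finite k (C ⧸ idealOf hx) ∧ Module.finrank k (C ⧸ idealOf hx) = n := by
  let e : (C ⧸ (idealOf hx).restrictScalars k) ≃ₗ[k] (Fin n → k) :=
    Submodule.quotEquivOfEq _ _ (Submodule.ext fun r => Iff.rfl) ≪≫ₗ
      (lin hx).quotKerEquivOfSurjective (surjective_lin hx)
  let e' : (C ⧸ idealOf hx) ≃ₗ[k] (Fin n → k) :=
    (Submodule.Quotient.restrictScalarsEquiv k (idealOf hx)).symm.trans e
  exact ⟨Module.Finite.equiv e'.symm, e'.finrank_eq.trans (by simp)⟩

/-- A point containing another one with one point more is given by a linear form. -/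
theorem exists_form {β₀ : Fin n → C} {xQ : C → Fin n → k} (hQ : IsCoord k β₀ xQ) (evk : C →ₐ[k] k)
    {β : Fin (n + 1) → C} {x : C → Fin (n + 1) → k} (hx : IsCoord k β x) (h1 : idealOf hx ≤ idealOf hQ)
    (h2 : RingHom.ker evk * idealOf hQ ≤ idealOf hx) {e : C} (he : e ∈ idealOf hQ) (he' : e ∉ idealOf hx) :
    ∃ lam : C →ₗ[k] k, IsForm β₀ xQ evk e lam ∧ ∀ c, lineX xQ lam c = 0 ↔ c ∈ idealOf hx := by
  obtain ⟨φ, hφe, hφI⟩ := Submodule.exists_dual_map_eq_bot_of_notMem (p := (idealOf hx).restrictScalars k) he'
    inferInstance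
  have hφI' : ∀ r ∈ idealOf hx, φ r = 0 := fun r hr => by
    have : φ r ∈ ((idealOf hx).restrictScalars k).map φ := ⟨r, hr, rfl⟩
    rwa [hφI, Submodule.mem_bot] at this
  let π : C →ₗ[k] C := LinearMap.id - (Fintype.linearCombination k β₀).comp (lin hQ)
  have hπ : ∀ c, π c = c - ∑ q, xQ c q • β₀ q := fun c => by
    simp [π, Fintype.linearCombination_apply, lin]
  have hπQ : ∀ c, xQ c = 0 → π c = c := fun c hc => by simp [hπ, hc]
  let lam : C →ₗ[k] k := (φ e)⁻¹ • φ.comp π
  have hform : IsForm β₀ xQ evk e lam := by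
    refine ⟨fun i => ?_, ?_, fun b hb c => ?_⟩
    · have : π (β₀ i) = 0 := by
        simp [π, show lin hQ (β₀ i) = Pi.single i 1 from lin_beta hQ i, Fintype.linearCombination_apply_single]
      simp [lam, this]
    · simp [lam, hπQ e he, hφe]
    · have hbc : (b * c : C) ∈ idealOf hQ := (idealOf hQ).mul_mem_right c hb
      have h3 : (c - algebraMap k C (evk c)) * b ∈ idealOf hx :=
        h2 (Ideal.mul_mem_mul (by simp [RingHom.mem_ker]) hb)
      have h4 : φ (b * c) = evk c * φ b := by
        have h5 : b * c = (c - algebraMap k C (evk c)) * b + evk c • b := by rw [Algebra.smul_def]; ring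
        rw [h5, map_add, hφI' _ h3, map_smul, zero_add, smul_eq_mul]
      simp [lam, hπQ _ hbc, hπQ b hb, h4]
      ring
  refine ⟨lam, hform, ?_⟩
  have hx' := isCoord_line hQ he hform
  have hle : idealOf hx ≤ idealOf hx' := fun r hr => by
    refine funext fun i => ?_
    induction i using Fin.lastCases with
    | last => simp [lineX, lam, hπQ r (h1 hr), hφI' r hr]
    | cast i => simp [lineX, show xQ r = 0 from h1 hr]
  haveI := (finite_quotient hx).1
  haveI := (finite_quotient hx').1
  have heq : idealOf hx = idealOf hx' := by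
    refine le_antisymm hle ?_
    let p : (C ⧸ idealOf hx) →ₐ[k] (C ⧸ idealOf hx') := Ideal.Quotient.factorₐ k hle
    have hsurj : Function.Surjective p := Ideal.Quotient.factor_surjective hle
    have hinj : Function.Injective p.toLinearMap := (LinearMap.injective_iff_surjective_of_finrank_eq_finrank
      ((finite_quotient hx).2.trans (finite_quotient hx').2.symm)).2 hsurj
    intro r hr
    rw [← Ideal.Quotient.eq_zero_iff_mem]
    refine hinj ?_
    show p (Ideal.Quotient.mk _ r) = p 0
    rw [map_zero]
    exact Ideal.Quotient.eq_zero_iff_mem.2 hr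
  exact fun c => by rw [heq]; rfl

/-- Every point contains one with one point less. -/
theorem exists_sub [IsAlgClosed k] {β : Fin (n + 1) → C} {x : C → Fin (n + 1) → k} (hx : IsCoord k β x) :
    ∃ (β₀ : Fin n → C) (xQ : C → Fin n → k) (hQ : IsCoord k β₀ xQ) (evk : C →ₐ[k] k),
      idealOf hx ≤ idealOf hQ ∧ RingHom.ker evk * idealOf hQ ≤ idealOf hx ∧
      idealOf hx ≤ RingHom.ker evk := by
  let I := idealOf hx
  haveI := (finite_quotient hx).1
  haveI : IsNoetherianRing (C ⧸ I) := isNoetherian_of_tower k inferInstance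
  haveI : Nontrivial (C ⧸ I) := Module.nontrivial_of_finrank_pos (R := k)
    ((Nat.succ_pos n).trans_le (finite_quotient hx).2.ge)
  obtain ⟨P, hP⟩ := associatedPrimes.nonempty (C ⧸ I) (C ⧸ I)
  have hP' := (isAssociatedPrime_iff_exists_injective_linearMap P (C ⧸ I)).1 (AssociatedPrimes.mem_iff.1 hP)
  obtain ⟨hprime, ι, hι⟩ := hP'
  let m : Ideal C := P.comap (Ideal.Quotient.mk I)
  haveI : P.IsPrime := hprime
  haveI : m.IsPrime := Ideal.IsPrime.comap _
  have hIm : I ≤ m := fun r hr => by
    show Ideal.Quotient.mk I r ∈ P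
    rw [Ideal.Quotient.eq_zero_iff_mem.2 hr]
    exact zero_mem _
  haveI : Module.Finite k (C ⧸ m) :=
    Module.Finite.of_surjective (Ideal.Quotient.factorₐ k hIm).toLinearMap (Ideal.Quotient.factor_surjective hIm)
  haveI : Algebra.IsIntegral k (C ⧸ m) := Algebra.IsIntegral.of_finite k _
  have hbij := IsAlgClosed.algebraMap_bijective_of_isIntegral (k := k) (K := C ⧸ m)
  let evk : C →ₐ[k] k :=
    ((AlgEquiv.ofBijective (Algebra.ofId k (C ⧸ m)) hbij).symm : (C ⧸ m) →ₐ[k] k).comp (Ideal.Quotient.mkₐ k m)
  have hker : ∀ c, evk c = 0 ↔ c ∈ m := fun c => by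
    simp [evk, Ideal.Quotient.eq_zero_iff_mem]
  obtain ⟨j, hj⟩ := Ideal.Quotient.mk_surjective (ι (Ideal.Quotient.mk P 1))
  have hann : ∀ c, c * j ∈ I ↔ c ∈ m := fun c => by
    rw [← Ideal.Quotient.eq_zero_iff_mem, map_mul, hj, ← smul_eq_mul, ← map_smul, ← map_zero ι, hι.eq_iff]
    show Ideal.Quotient.mk P (Ideal.Quotient.mk I c * 1) = 0 ↔ _
    rw [mul_one, Ideal.Quotient.eq_zero_iff_mem]
    rfl
  have hjI : j ∉ I := fun h => hprime.ne_top (P.eq_top_iff_one.2 (by
    have := (hann 1).1 (by simpa using h)
    simpa [m] using this))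
  let Q : Ideal C := I ⊔ Ideal.span {j}
  have hmQ : RingHom.ker evk * Q ≤ I := by
    rw [Ideal.mul_sup]
    refine sup_le Ideal.mul_le_right (Ideal.mul_le.2 fun a ha b hb => ?_)
    obtain ⟨r, rfl⟩ := Ideal.mem_span_singleton'.1 hb
    rw [mul_left_comm]
    exact I.mul_mem_left _ ((hann a).2 ((hker a).1 ha))
  let p : (C ⧸ I) →ₐ[k] (C ⧸ Q) := Ideal.Quotient.factorₐ k le_sup_left
  have hsurj : Function.Surjective p := Ideal.Quotient.factor_surjective le_sup_left
  haveI : Module.Finite k (C ⧸ Q) := Module.Finite.of_surjective p.toLinearMap hsurj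
  have hkp : LinearMap.ker p.toLinearMap = k ∙ (Ideal.Quotient.mk I j : C ⧸ I) := by
    refine le_antisymm (fun w hw => ?_) ((Submodule.span_singleton_le_iff_mem _ _).2 ?_)
    · obtain ⟨r, rfl⟩ := Ideal.Quotient.mk_surjective w
      obtain ⟨a, ha, b, hb, hab⟩ := Submodule.mem_sup.1 (Ideal.Quotient.eq_zero_iff_mem.1 (show Ideal.Quotient.mk Q r = 0 from hw))
      obtain ⟨c, rfl⟩ := Ideal.mem_span_singleton'.1 hb
      refine Submodule.mem_span_singleton.2 ⟨evk c, ?_⟩
      rw [← hab, map_add, Ideal.Quotient.eq_zero_iff_mem.2 ha, zero_add]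
      show evk c • Ideal.Quotient.mkₐ k I j = Ideal.Quotient.mkₐ k I (c * j)
      rw [← map_smul, Ideal.Quotient.mkₐ_eq_mk, Ideal.Quotient.eq, Algebra.smul_def, ← sub_mul]
      exact (hann _).2 ((hker _).1 (by simp))
    · exact Ideal.Quotient.eq_zero_iff_mem.2 (Submodule.mem_sup_right (Ideal.mem_span_singleton_self j))
  have hrk : Module.finrank k (C ⧸ Q) = n := by
    have h := LinearMap.finrank_range_add_finrank_ker p.toLinearMap
    rw [LinearMap.range_eq_top.2 hsurj, finrank_top, hkp,
      finrank_span_singleton (fun h0 => hjI (Ideal.Quotient.eq_zero_iff_mem.1 h0)), (finite_quotient hx).2] at h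
    omega
  obtain ⟨β₀, xQ, hQ, hQI⟩ := exists_coord_of_ideal Q hrk
  exact ⟨β₀, xQ, hQ, evk, hQI ▸ le_sup_left, hQI ▸ hmQ, fun r hr => (hker r).2 (hIm hr)⟩

end Groth.Agent.HilbConn18
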