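import Groth.Agent.Lib.HilbConn18.Frame
import Groth.Agent.Lib.HilbProj18.Charts
import Mathlib.RingTheory.Valuation.LocalSubring
import Mathlib.AlgebraicGeometry.Noetherian

/-!
# Adding one point to a subscheme
-/

set_option autoImplicit false
set_option linter.unusedSectionVars false
set_option linter.style.haveILetI false
set_option maxHeartbeats 800000
set_option backward.isDefEq.respectTransparency.types false

universe u

open CategoryTheory CategoryTheory.Limits AlgebraicGeometry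
open scoped TensorProduct

namespace Groth.Agent.HilbConn18

open Groth.Agent.HilbRep25 Groth.Agent.HilbProj18 Groth.Agent.PunctHilb18

/-- Not separated by a clopen set. -/
def Same {α : Type*} [TopologicalSpace α] (a b : α) : Prop := ∀ S : Set α, IsClopen S → (a ∈ S ↔ b ∈ S)

theorem Same.refl {α : Type*} [TopologicalSpace α] (a : α) : Same a a := fun _ _ => Iff.rfl

theorem Same.symm {α : Type*} [TopologicalSpace α] {a b : α} (h : Same a b) : Same b a := fun S hS => (h S hS).symm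

theorem Same.trans {α : Type*} [TopologicalSpace α] {a b c : α} (h : Same a b) (h' : Same b c) : Same a c :=
  fun S hS => (h S hS).trans (h' S hS)

theorem same_of_preconnected {α β : Type*} [TopologicalSpace α] [TopologicalSpace β] [PreconnectedSpace β]
    {g : β → α} (hg : Continuous g) (x y : β) : Same (g x) (g y) := fun S hS => by
  rcases isClopen_iff.1 (hS.preimage hg) with h | h
  · exact iff_of_false (fun hx => (Set.eq_empty_iff_forall_notMem.1 h) x hx)
      fun hy => (Set.eq_empty_iff_forall_notMem.1 h) y hy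
  · exact iff_of_true (h.ge (Set.mem_univ x)) (h.ge (Set.mem_univ y))

variable {k : Type u} [Field k] {Y : Scheme.{u}} {f : Y ⟶ Spec (CommRingCat.of k)} [IsSeparated f] {n : ℕ}
  {H H' : Over (Spec (CommRingCat.of k))} {Z : HilbD.Obj f (n + 1) H} {Z' : HilbD.Obj f n H'}
  (hZ : HilbD.IsUniversal f (n + 1) H Z) (hZ' : HilbD.IsUniversal f n H' Z')

/-- The image of a rational point. -/
noncomputable def pt {W : Over (Spec (CommRingCat.of k))} (a : TT (k := k) k ⟶ W) : W.left :=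
  a.left (⊥ : PrimeSpectrum k)

/-- All points of a connected family look alike. -/
theorem same_map (c : Ch f) {W : Over (Spec (CommRingCat.of k))} {R R' : Type u} [CommRing R] [IsDomain R]
    [Algebra k R] [CommRing R'] [Algebra k R'] (a : TT R ⟶ W) (g : R →ₐ[k] R') (p : PrimeSpectrum R')
    (q : PrimeSpectrum R) : Same ((c.F.homMap g ≫ a).left p) (a.left q) :=
  haveI : IrreducibleSpace (PrimeSpectrum R) := PrimeSpectrum.irreducibleSpace
  haveI : PreconnectedSpace ↥(TT (k := k) R).left :=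
    ⟨(PreirreducibleSpace.isPreirreducible_univ (X := PrimeSpectrum R)).isPreconnected⟩
  same_of_preconnected (β := ↥(TT (k := k) R).left) a.left.continuous
    (PrimeSpectrum.comap g.toRingHom p) q

/-- `a` is `q` with the point `y` added. -/
def IsExt (q : TT (k := k) k ⟶ H') (y : Y) (a : TT (k := k) k ⟶ H) : Prop :=
  ∃ (c : Ch f) (β₀ : Fin n → c.C) (xQ : c.C → Fin n → k) (hQ : IsCoord k β₀ xQ) (ev : c.C →ₐ[k] k)
    (β : Fin (n + 1) → c.C) (x : c.C → Fin (n + 1) → k) (hx : IsCoord k β x),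
    mor hZ' c hQ = q ∧ mor hZ c hx = a ∧ c.at' ev = y ∧
      idealOf hx ≤ idealOf hQ ∧ RingHom.ker ev * idealOf hQ ≤ idealOf hx

/-- The quotient by the ideal of a point receives the chart. -/
theorem ker_eq_map {c c' : Ch f} (ρ : c.C →ₐ[k] c'.C)
    (hρ : Spec.map (CommRingCat.ofHom ρ.toRingHom) ≫ c.u = c'.u) {Q : Type u} [CommRing Q] [Algebra k Q]
    (g : c'.C →ₐ[k] Q) (hg : Function.Surjective fun z => g (ρ z)) :
    RingHom.ker g = (RingHom.ker (g.comp ρ)).map ρ := by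
  refine le_antisymm (fun z hz => ?_) (Ideal.map_le_iff_le_comap.2 fun w hw => hw)
  let I := RingHom.ker (g.comp ρ)
  let e := Ideal.quotientKerAlgEquivOfSurjective (f := g.comp ρ) hg
  let p : (c.C ⧸ I) →ₐ[k] c'.C ⧸ I.map ρ := Ideal.quotientMapₐ _ ρ Ideal.le_comap_map
  have h := algHom_ext_restrict (c := c) ρ hρ (g := Ideal.Quotient.mkₐ k (I.map ρ))
    (g' := (p.comp e.symm.toAlgHom).comp g) fun w => by
      have h1 : e.symm (g (ρ w)) = Ideal.Quotient.mk I w := by
        rw [AlgEquiv.symm_apply_eq]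
        exact (Ideal.quotientKerAlgEquivOfSurjective_mk (f := g.comp ρ) hg w).symm
      show _ = p (e.symm (g (ρ w)))
      rw [h1]
      rfl
  rw [← Ideal.Quotient.eq_zero_iff_mem]
  refine (congr($h z)).trans ?_
  show p (e.symm (g z)) = 0
  rw [show g z = 0 from hz, map_zero, map_zero]

theorem idealOf_restrict {m : ℕ} {c c' : Ch f} (ρ : c.C →ₐ[k] c'.C)
    (hρ : Spec.map (CommRingCat.ofHom ρ.toRingHom) ≫ c.u = c'.u) {β : Fin m → c.C} {x : c.C → Fin m → k}
    (hx : IsCoord k β x) {x' : c'.C → Fin m → k} (hx' : IsCoord k (fun i => ρ (β i)) x')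
    (h : ∀ z, x' (ρ z) = x z) : idealOf hx' = (idealOf hx).map ρ := by
  have h1 := ker_eq_map (c := c) ρ hρ (Ideal.Quotient.mkₐ k (idealOf hx')) fun w => by
    obtain ⟨z, rfl⟩ := Ideal.Quotient.mk_surjective w
    refine ⟨∑ i, x' z i • β i, ?_⟩
    show Ideal.Quotient.mk (idealOf hx') _ = _
    rw [eq_comm, Ideal.Quotient.eq, map_sum]
    simp only [map_smul]
    exact sub_mem_idealOf hx' z
  have h2 : RingHom.ker ((Ideal.Quotient.mkₐ k (idealOf hx')).comp ρ) = idealOf hx := by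
    ext z
    rw [RingHom.mem_ker, mem_idealOf, ← h z]
    exact Ideal.Quotient.eq_zero_iff_mem
  rw [h2, show RingHom.ker (Ideal.Quotient.mkₐ k (idealOf hx')) = idealOf hx' from Ideal.mk_ker] at h1
  exact h1

theorem coordMap_surjective {m : ℕ} {c : Ch f} {β : Fin m → c.C} {x : c.C → Fin m → k} (hx : IsCoord k β x) :
    Function.Surjective (coordMap (A := k) (R := k) (β := β) (x := x)) := fun w =>
  ⟨∑ i, (coordBasis hx).repr w i • β i, by
    conv_rhs => rw [← (coordBasis hx).sum_repr w]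
    rw [map_sum]
    exact Finset.sum_congr rfl fun i _ => by rw [map_smul, coordBasis_apply hx]; rfl⟩

theorem coordMap_eq_zero_iff {m : ℕ} {c : Ch f} {β : Fin m → c.C} {x : c.C → Fin m → k} (hx : IsCoord k β x)
    (z : c.C) : coordMap (A := k) (R := k) (β := β) (x := x) z = 0 ↔ z ∈ idealOf hx := by
  refine ⟨fun h => funext fun i => ?_, fun h => (coordBasis hx).repr.injective (Finsupp.ext fun i => ?_)⟩
  · rw [← repr_coordBasis hx z i, h, map_zero]; rfl
  · rw [repr_coordBasis hx, show x z = 0 from h, map_zero]; rfl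

/-- The points of the subscheme of a chart point. -/
theorem range_eq {m : ℕ} {c : Ch f} {β : Fin m → c.C} {x : c.C → Fin m → k} (hx : IsCoord k β x) :
    Set.range ((c.F.zOf hx).1.subschemeι ≫ pullback.fst f (TT (k := k) k).hom) =
      c.u '' PrimeSpectrum.zeroLocus (idealOf hx : Set c.C) := by
  let γ : c.C →ₐ[k] (k ⊗[k] c.C) ⧸ coordIdeal (A := k) β x := coordMap (β := β) (x := x)
  haveI : Module.Finite k ((k ⊗[k] c.C) ⧸ coordIdeal (A := k) β x) := Module.Finite.of_basis (coordBasis hx)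
  haveI := c.F.isClosedImmersion_iota (coordMap (β := β) (x := x))
    (presentation_surjective (β := β) _ (coordBasis hx) (fun i => coordBasis_apply hx i))
  have hsub : Set.range ((c.F.zOf hx).1.subschemeι) = Set.range (c.F.iota k γ) := by
    show Set.range (c.F.iota k γ).ker.subschemeι = _
    rw [Scheme.IdealSheafData.range_subschemeι, Scheme.Hom.support_ker]
    exact (IsClosedImmersion.base_closed (f := c.F.iota k γ)).isClosed_range.closure_eq
  have h0 : ∀ {A B C' : Scheme.{u}} (i : A ⟶ B) (p : B ⟶ C'), Set.range (i ≫ p) = p '' Set.range i :=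
    fun i p => by rw [Scheme.Hom.comp_base, TopCat.coe_comp, Set.range_comp]
  rw [h0, hsub, ← h0, Frame.iota_fst, h0]
  show c.u '' Set.range (PrimeSpectrum.comap γ.toRingHom) = _
  refine (congrArg (fun s => c.u '' s) (range_comap_of_surjective _ γ.toRingHom (coordMap_surjective hx))).trans ?_
  congr 2
  exact Set.ext fun z => (coordMap_eq_zero_iff hx z)

theorem idealOf_eq_of_mor_eq {m : ℕ} {W : Over (Spec (CommRingCat.of k))} {ZW : HilbD.Obj f m W}
    (hW : HilbD.IsUniversal f m W ZW) {c : Ch f} {β β' : Fin m → c.C} {x x' : c.C → Fin m → k}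
    (hx : IsCoord k β x) (hx' : IsCoord k β' x') (h : mor hW c hx = mor hW c hx') :
    idealOf hx = idealOf hx' := by
  have h1 : (c.F.zOf hx).1 = (c.F.zOf hx').1 := by rw [← pull_mor hW c hx, h, pull_mor hW c hx']
  haveI : Module.Finite k ((k ⊗[k] c.C) ⧸ coordIdeal (A := k) β x) := Module.Finite.of_basis (coordBasis hx)
  haveI : Module.Finite k ((k ⊗[k] c.C) ⧸ coordIdeal (A := k) β' x') := Module.Finite.of_basis (coordBasis hx')
  haveI := c.F.isClosedImmersion_iota (coordMap (β := β) (x := x))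
    (presentation_surjective (β := β) _ (coordBasis hx) (fun i => coordBasis_apply hx i))
  haveI := c.F.isClosedImmersion_iota (coordMap (β := β') (x := x'))
    (presentation_surjective (β := β') _ (coordBasis hx') (fun i => coordBasis_apply hx' i))
  obtain ⟨ε, hε⟩ := c.F.exists_algEquiv_of_ker_eq _ _ h1
  ext z
  rw [← coordMap_eq_zero_iff hx, ← coordMap_eq_zero_iff hx', ← hε z, map_eq_zero_iff ε ε.injective]

theorem range_eq_of_mor_eq {m : ℕ} {W : Over (Spec (CommRingCat.of k))} {ZW : HilbD.Obj f m W}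
    (hW : HilbD.IsUniversal f m W ZW) {c c' : Ch f} {β : Fin m → c.C} {x : c.C → Fin m → k}
    {β' : Fin m → c'.C} {x' : c'.C → Fin m → k} (hx : IsCoord k β x) (hx' : IsCoord k β' x')
    (h : mor hW c hx = mor hW c' hx') :
    c.u '' PrimeSpectrum.zeroLocus (idealOf hx : Set c.C) = c'.u '' PrimeSpectrum.zeroLocus (idealOf hx' : Set c'.C) := by
  have h1 : (c.F.zOf hx).1 = (c'.F.zOf hx').1 := by rw [← pull_mor hW c hx, h, pull_mor hW c' hx']
  rw [← range_eq hx, ← range_eq hx', h1]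

/-- Two points obtained by the same addition are joined by a line. -/
theorem same_of_line (c : Ch f) {β₀ : Fin n → c.C} {xQ : c.C → Fin n → k} (hQ : IsCoord k β₀ xQ)
    {ev : c.C →ₐ[k] k} {e : c.C} (he : xQ e = 0) {L : Type u} [Field L] [Algebra k L] {l₁ l₂ : c.C →ₗ[k] L}
    (h₁ : IsForm β₀ xQ ev e l₁) (h₂ : IsForm β₀ xQ ev e l₂) :
    Same ((mor hZ c (isCoord_line hQ he h₁)).left (⊥ : PrimeSpectrum L))
      ((mor hZ c (isCoord_line hQ he h₂)).left (⊥ : PrimeSpectrum L)) := by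
  let ι : L →ₗ[k] Polynomial L := (IsScalarTower.toAlgHom k L (Polynomial L)).toLinearMap
  let lam : c.C →ₗ[k] Polynomial L :=
    ι.comp l₁ + (LinearMap.mulLeft k (Polynomial.X : Polynomial L)).comp (ι.comp (l₂ - l₁))
  have hlam : ∀ z, lam z = Polynomial.C (l₁ z) + Polynomial.X * Polynomial.C (l₂ z - l₁ z) := fun z => by
    simp [lam, ι, Polynomial.algebraMap_eq]
  have hform : IsForm β₀ xQ ev e lam := by
    refine ⟨fun i => ?_, ?_, fun b hb z => ?_⟩
    · simp [hlam, h₁.base, h₂.base]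
    · simp [hlam, h₁.one, h₂.one]
    · have hk : algebraMap k (Polynomial L) (ev z) = Polynomial.C (algebraMap k L (ev z)) := rfl
      rw [hlam, hlam, h₁.mul b hb z, h₂.mul b hb z, hk, map_sub, map_sub, map_mul, map_mul]
      ring
  have hy := isCoord_line hQ he hform
  let evL : L → (Polynomial L →ₐ[k] L) := fun t => (Polynomial.aeval t : Polynomial L →ₐ[L] L).restrictScalars k
  have hv : ∀ t z, evL t (lam z) = l₁ z + t * (l₂ z - l₁ z) := fun t z => by simp [evL, hlam]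
  have e0 : c.F.homMap (evL 0) ≫ mor hZ c hy = mor hZ c (isCoord_line hQ he h₁) :=
    mor_map hZ c hy _ _ ((lineX_map xQ lam (evL 0)).trans
      (congrArg (lineX xQ) (LinearMap.ext fun z => by simp [hv])))
  have e1 : c.F.homMap (evL 1) ≫ mor hZ c hy = mor hZ c (isCoord_line hQ he h₂) :=
    mor_map hZ c hy _ _ ((lineX_map xQ lam (evL 1)).trans
      (congrArg (lineX xQ) (LinearMap.ext fun z => by simp [hv])))
  rw [← e0, ← e1]
  exact (same_map c (mor hZ c hy) (evL 0) ⊥ ⊥).trans (same_map c (mor hZ c hy) (evL 1) ⊥ ⊥).symm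

/-- Points obtained by the same addition are not separated. -/
theorem same_of_isExt [IsAlgClosed k] [LocallyOfFiniteType f] (hsep : Y.IsSeparated)
    {q : TT (k := k) k ⟶ H'} {y : Y} {a₁ a₂ : TT (k := k) k ⟶ H}
    (h1 : IsExt hZ hZ' q y a₁) (h2 : IsExt hZ hZ' q y a₂) : Same (pt a₁) (pt a₂) := by
  obtain ⟨c₁, β₁, xQ₁, hQ₁, ev₁, β₁', x₁, hx₁, q₁, rfl, hy₁, le₁, mul₁⟩ := h1
  obtain ⟨c₂, β₂, xQ₂, hQ₂, ev₂, β₂', x₂, hx₂, q₂, rfl, hy₂, le₂, mul₂⟩ := h2
  haveI : IsAffineHom (pullback.diagonal (terminal.from Y)) := by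
    haveI := hsep
    infer_instance
  have hU : IsAffineOpen (c₁.u.opensRange ⊓ c₂.u.opensRange) :=
    (isAffineOpen_opensRange c₁.u).inf (isAffineOpen_opensRange c₂.u)
  obtain ⟨c, hc⟩ := exists_ch f hU
  obtain ⟨ρ₁, hρ₁⟩ := exists_hom c₁ c (hc.le.trans Set.inter_subset_left)
  obtain ⟨ρ₂, hρ₂⟩ := exists_hom c₂ c (hc.le.trans Set.inter_subset_right)
  have hq := range_eq_of_mor_eq hZ' hQ₁ hQ₂ (q₁.trans q₂.symm)
  have hyc : y ∈ Set.range c.u := hc.ge ⟨⟨_, hy₁⟩, ⟨_, hy₂⟩⟩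
  have hymem : IsClosed ({y} : Set Y) := by
    rw [← hy₁]
    let p₀ : Spec (CommRingCat.of k) ⟶ Y := Spec.map (CommRingCat.ofHom ev₁.toRingHom) ≫ c₁.u
    have hp : p₀ ≫ f = 𝟙 _ := by
      rw [Category.assoc, c₁.w, ← Spec.map_comp]
      have hc : CommRingCat.ofHom (algebraMap k c₁.C) ≫ CommRingCat.ofHom ev₁.toRingHom = 𝟙 _ := by
        ext z
        simp
      rw [hc, Spec.map_id]
    haveI : IsClosedImmersion (p₀ ≫ f) := by rw [hp]; infer_instance
    haveI : IsClosedImmersion p₀ := IsClosedImmersion.of_comp p₀ f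
    have hr : Set.range p₀ = {c₁.at' ev₁} := by
      refine Set.eq_singleton_iff_unique_mem.2 ⟨⟨(⊥ : PrimeSpectrum k), ?_⟩, ?_⟩
      · rw [Scheme.Hom.comp_apply]; rfl
      · rintro _ ⟨b, rfl⟩
        obtain rfl : b = (⊥ : PrimeSpectrum k) := Subsingleton.elim _ _
        rw [Scheme.Hom.comp_apply]; rfl
    rw [← hr]
    exact p₀.isClosedEmbedding.isClosed_range
  obtain ⟨ev, hev⟩ := exists_ev c hymem hyc
  -- supports lie in both charts
  have supQ₁ : ∀ p : PrimeSpectrum c₁.C, (∀ z, xQ₁ z = 0 → z ∈ p.asIdeal) → c₁.u p ∈ Set.range c.u :=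
    fun p hp => hc.ge ⟨⟨p, rfl⟩, (Set.image_subset_range _ _) (hq.le ⟨p, hp, rfl⟩)⟩
  have supQ₂ : ∀ p : PrimeSpectrum c₂.C, (∀ z, xQ₂ z = 0 → z ∈ p.asIdeal) → c₂.u p ∈ Set.range c.u :=
    fun p hp => hc.ge ⟨(Set.image_subset_range _ _) (hq.ge ⟨p, hp, rfl⟩), ⟨p, rfl⟩⟩
  have sup : ∀ {c₁ : Ch f} {β₁ : Fin n → c₁.C} {xQ₁ : c₁.C → Fin n → k} (hQ₁ : IsCoord k β₁ xQ₁)
      {ev₁ : c₁.C →ₐ[k] k} {β₁' : Fin (n + 1) → c₁.C} {x₁ : c₁.C → Fin (n + 1) → k} (hx₁ : IsCoord k β₁' x₁),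
      c₁.at' ev₁ = y → RingHom.ker ev₁ * idealOf hQ₁ ≤ idealOf hx₁ →
      (∀ p : PrimeSpectrum c₁.C, (∀ z, xQ₁ z = 0 → z ∈ p.asIdeal) → c₁.u p ∈ Set.range c.u) →
      ∀ p : PrimeSpectrum c₁.C, (∀ z, x₁ z = 0 → z ∈ p.asIdeal) → c₁.u p ∈ Set.range c.u := by
    intro c₁ β₁ xQ₁ hQ₁ ev₁ β₁' x₁ hx₁ hy hmul hs p hp
    rcases (Ideal.IsPrime.mul_le p.2).1 (hmul.trans fun z hz => hp z hz) with h | h
    · haveI : (RingHom.ker ev₁).IsMaximal :=
        RingHom.ker_isMaximal_of_surjective ev₁ fun a => ⟨algebraMap k _ a, ev₁.commutes a⟩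
      have : p.asIdeal = RingHom.ker ev₁ := (Ideal.IsMaximal.eq_of_le ‹_› p.2.ne_top h).symm
      rw [show p = ⟨RingHom.ker ev₁, RingHom.ker_isPrime ev₁⟩ from PrimeSpectrum.ext this]
      rw [show c₁.u _ = y from hy]
      exact hyc
    · exact hs p fun z hz => h hz
  have trans' : ∀ {c₁ : Ch f} (ρ₁ : c₁.C →ₐ[k] c.C) (hρ₁ : Spec.map (CommRingCat.ofHom ρ₁.toRingHom) ≫ c₁.u = c.u)
      {β₁ : Fin n → c₁.C} {xQ₁ : c₁.C → Fin n → k} (hQ₁ : IsCoord k β₁ xQ₁)
      {ev₁ : c₁.C →ₐ[k] k} {β₁' : Fin (n + 1) → c₁.C} {x₁ : c₁.C → Fin (n + 1) → k} (hx₁ : IsCoord k β₁' x₁),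
      mor hZ' c₁ hQ₁ = q → c₁.at' ev₁ = y → idealOf hx₁ ≤ idealOf hQ₁ → RingHom.ker ev₁ * idealOf hQ₁ ≤ idealOf hx₁ →
      (∀ p : PrimeSpectrum c₁.C, (∀ z, xQ₁ z = 0 → z ∈ p.asIdeal) → c₁.u p ∈ Set.range c.u) →
      ∃ (β : Fin n → c.C) (xQ : c.C → Fin n → k) (hQ : IsCoord k β xQ) (β' : Fin (n + 1) → c.C)
        (x : c.C → Fin (n + 1) → k) (hx : IsCoord k β' x), mor hZ' c hQ = q ∧ mor hZ c hx = mor hZ c₁ hx₁ ∧
        idealOf hx ≤ idealOf hQ ∧ RingHom.ker ev * idealOf hQ ≤ idealOf hx := by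
    intro c₁ ρ₁ hρ₁ β₁ xQ₁ hQ₁ ev₁ β₁' x₁ hx₁ hq hy hle hmul hs
    obtain ⟨xQ, hQ, eQ, mQ⟩ := exists_restrict hZ' c₁ ρ₁ hρ₁ hQ₁ hs
    obtain ⟨x, hx, ex, mx⟩ := exists_restrict hZ c₁ ρ₁ hρ₁ hx₁ (sup hQ₁ hx₁ hy hmul hs)
    have he : ev.comp ρ₁ = ev₁ := c₁.at_injective (by rw [← Ch.at_restrict (c := c₁) ρ₁ hρ₁, hev, hy])
    have hm : RingHom.ker ev = (RingHom.ker ev₁).map ρ₁ := by
      rw [← he]
      exact ker_eq_map (c := c₁) ρ₁ hρ₁ ev fun a => ⟨algebraMap k _ a, by simp⟩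
    refine ⟨_, xQ, hQ, _, x, hx, mQ.trans hq, mx, ?_, ?_⟩
    · rw [idealOf_restrict ρ₁ hρ₁ hQ₁ hQ eQ, idealOf_restrict ρ₁ hρ₁ hx₁ hx ex]
      exact Ideal.map_mono hle
    · rw [idealOf_restrict ρ₁ hρ₁ hQ₁ hQ eQ, idealOf_restrict ρ₁ hρ₁ hx₁ hx ex, hm, ← Ideal.map_mul]
      exact Ideal.map_mono hmul
  obtain ⟨γ₁, zQ₁, kQ₁, γ₁', z₁, kx₁, mq₁, ma₁, l₁, m₁⟩ := trans' ρ₁ hρ₁ hQ₁ hx₁ q₁ hy₁ le₁ mul₁ supQ₁
  obtain ⟨γ₂, zQ₂, kQ₂, γ₂', z₂, kx₂, mq₂, ma₂, l₂, m₂⟩ := trans' ρ₂ hρ₂ hQ₂ hx₂ q₂ hy₂ le₂ mul₂ supQ₂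
  rw [← idealOf_eq_of_mor_eq hZ' kQ₁ kQ₂ (mq₁.trans mq₂.symm)] at l₂ m₂
  rw [← ma₁, ← ma₂]
  -- a common element
  have hne : ∀ {β' : Fin (n + 1) → c.C} {z : c.C → Fin (n + 1) → k} (kx : IsCoord k β' z),
      ∃ e ∈ idealOf kQ₁, e ∉ idealOf kx := by
    intro β' z kx
    by_contra hcon
    push Not at hcon
    haveI := (finite_quotient kQ₁).1
    have hle : idealOf kQ₁ ≤ idealOf kx := fun e he => hcon e he
    have h := LinearMap.finrank_le_finrank_of_surjective (f := (Ideal.Quotient.factorₐ k hle).toLinearMap)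
      (Ideal.Quotient.factor_surjective hle)
    rw [(finite_quotient kQ₁).2, (finite_quotient kx).2] at h
    omega
  obtain ⟨e₁, he₁, hn₁⟩ := hne kx₁
  obtain ⟨e₂, he₂, hn₂⟩ := hne kx₂
  obtain ⟨e, he, hne₁, hne₂⟩ : ∃ e ∈ idealOf kQ₁, e ∉ idealOf kx₁ ∧ e ∉ idealOf kx₂ := by
    by_cases h12 : e₁ ∈ idealOf kx₂
    · by_cases h21 : e₂ ∈ idealOf kx₁
      · exact ⟨e₁ + e₂, add_mem he₁ he₂, fun h => hn₁ ((Ideal.add_mem_iff_left _ h21).1 h),
          fun h => hn₂ ((Ideal.add_mem_iff_right _ h12).1 h)⟩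
      · exact ⟨e₂, he₂, h21, hn₂⟩
    · exact ⟨e₁, he₁, hn₁, h12⟩
  obtain ⟨f₁, hf₁, hk₁⟩ := exists_form kQ₁ ev kx₁ l₁ m₁ he hne₁
  obtain ⟨f₂, hf₂, hk₂⟩ := exists_form kQ₁ ev kx₂ l₂ m₂ he hne₂
  have h := same_of_line hZ c kQ₁ he hf₁ hf₂
  rw [mor_eq_of_coordIdeal hZ c (isCoord_line kQ₁ he hf₁) kx₁
      (coordIdeal_eq_of_idealOf (isCoord_line kQ₁ he hf₁) kx₁ (Ideal.ext hk₁)),
    mor_eq_of_coordIdeal hZ c (isCoord_line kQ₁ he hf₂) kx₂
      (coordIdeal_eq_of_idealOf (isCoord_line kQ₁ he hf₂) kx₂ (Ideal.ext hk₂))] at h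
  exact h

/-- Adding a point on an integral subscheme: every choice looks like adding its generic point. -/
theorem same_generic [IsAlgClosed k] (c : Ch f) [IsNoetherianRing c.C] {β₀ : Fin n → c.C}
    {xQ : c.C → Fin n → k} (hQ : IsCoord k β₀ xQ) {P : Ideal c.C} [P.IsPrime] {e₀ : c.C}
    (he₀ : xQ e₀ = 0) (he₀P : e₀ ∉ P) :
    ∃ h : H.left, ∀ ev : c.C →ₐ[k] k, P ≤ RingHom.ker ev →
      ∃ a : TT (k := k) k ⟶ H, IsExt hZ hZ' (mor hZ' c hQ) (c.at' ev) a ∧ Same (pt a) h := by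
  classical
  let K := P.ResidueField
  let evK : c.C →ₐ[k] K := IsScalarTower.toAlgHom k c.C K
  have hPK : ∀ z, evK z = 0 ↔ z ∈ P := fun z => Ideal.algebraMap_residueField_eq_zero
  let xU : c.C → Fin n → K := fun z i => algebraMap k K (xQ z i)
  have hU : IsCoord k β₀ xU := hQ.map (Algebra.ofId k K)
  have hD : ∀ e, xQ e = 0 → evK e ≠ 0 → (evK e)⁻¹ * (evK e - ∑ i, xU e i * evK (β₀ i)) = 1 := fun e he hne => by
    simp [xU, he, inv_mul_cancel₀ hne]
  have hu₀ := hD e₀ he₀ (fun h => he₀P ((hPK _).1 h))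
  refine ⟨(mor hZ c (isCoord_prod hU evK e₀ _ hu₀)).left (⊥ : PrimeSpectrum K), fun ev hev => ?_⟩
  -- a valuation ring centred at the point
  let A : Subring K := evK.toRingHom.range
  let I : Ideal A := (RingHom.ker ev).map evK.toRingHom.rangeRestrict
  have hI : I ≠ ⊤ := fun htop => RingHom.ker_ne_top ev (by
    have hsup := Ideal.comap_map_of_surjective evK.toRingHom.rangeRestrict evK.toRingHom.rangeRestrict_surjective
      (RingHom.ker ev)
    rw [show (RingHom.ker ev).map evK.toRingHom.rangeRestrict = ⊤ from htop, Ideal.comap_top, sup_eq_left.2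
      (fun z hz => hev ((hPK z).1 (congrArg Subtype.val (show evK.toRingHom.rangeRestrict z = 0 from hz))))] at hsup
    exact hsup.symm)
  obtain ⟨V, hAV, hIV⟩ := Ideal.image_subset_nonunits_valuationSubring I hI
  have hmV : ∀ z, evK z ∈ V := fun z => hAV ⟨z, rfl⟩
  have hnu : ∀ z ∈ RingHom.ker ev, evK z ∈ V.nonunits := fun z hz =>
    hIV ⟨evK.toRingHom.rangeRestrict z, Ideal.mem_map_of_mem _ hz, rfl⟩
  -- the element of largest value
  obtain ⟨s, hs⟩ := (IsNoetherian.noetherian (idealOf hQ) : (idealOf hQ).FG)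
  obtain ⟨z₀, hz₀s, hz₀P⟩ : ∃ z ∈ s, evK z ≠ 0 := by
    by_contra hcon
    push Not at hcon
    have : idealOf hQ ≤ P := hs ▸ Ideal.span_le.2 fun z hz => (hPK z).1 (hcon z hz)
    exact he₀P (this he₀)
  obtain ⟨e, hes, hmax⟩ := Finset.exists_max_image s (fun z => V.valuation (evK z)) ⟨z₀, hz₀s⟩
  have he : xQ e = 0 := (hs ▸ Ideal.subset_span hes : e ∈ idealOf hQ)
  have heK : evK e ≠ 0 := fun h => by
    have := hmax z₀ hz₀s
    simp only [h, map_zero, le_zero_iff] at this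
    exact hz₀P ((V.valuation.zero_iff).1 this)
  have hdiv : ∀ z, xQ z = 0 → (evK e)⁻¹ * evK z ∈ V := fun z hz => by
    have h1 : V.valuation (evK z) ≤ V.valuation (evK e) := by
      have hz' : z ∈ Ideal.span (s : Set c.C) := by rw [show Ideal.span (s : Set c.C) = idealOf hQ from hs]; exact hz
      clear hz
      induction hz' using Submodule.span_induction with
      | mem z hz => exact hmax z hz
      | zero => simp
      | add a b _ _ ha hb => rw [map_add]; exact (V.valuation.map_add _ _).trans (max_le ha hb)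
      | smul a b _ hb =>
        rw [smul_eq_mul, map_mul, map_mul]
        exact le_trans (mul_le_of_le_one_left' ((V.valuation_le_one_iff _).2 (hmV a))) hb
    rw [← V.valuation_le_one_iff, map_mul, map_inv₀, inv_mul_le_one₀ (zero_lt_iff.2 (V.valuation.ne_zero_iff.2 heK))]
    exact h1
  have hu := hD e he heK
  rw [mor_eq_of_coordIdeal hZ c (isCoord_prod hU evK e₀ _ hu₀) (isCoord_prod hU evK e _ hu)
    (coordIdeal_prodX_eq hU evK e₀ _ hu₀ e _ hu)]
  -- the family over the valuation ring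
  let Vk : Subalgebra k K :=
    { V.toSubring.toSubsemiring with
      algebraMap_mem' := fun a => by
        rw [IsScalarTower.algebraMap_apply k c.C K]
        exact hmV _ }
  let X := prodX β₀ xU evK e (evK e)⁻¹
  have hlast : ∀ z, X z (Fin.last n) = (evK e)⁻¹ * evK (z - ∑ i, xQ z i • β₀ i) := fun z => by
    simp only [X, prodX_last, xU, map_sub, map_sum, map_smul]
    simp only [Algebra.smul_def]
  have hXV : ∀ z i, X z i ∈ Vk := fun z i => by
    induction i using Fin.lastCases with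
    | last => rw [hlast]; exact hdiv _ (sub_mem_idealOf hQ z)
    | cast i =>
      simp only [X, prodX_first, xU, he, Pi.zero_apply, map_zero, mul_zero, sub_zero]
      exact Vk.algebraMap_mem _
  let yv : c.C → Fin (n + 1) → Vk := fun z i => ⟨X z i, hXV z i⟩
  have hyv : IsCoord k (Fin.snoc β₀ e : Fin (n + 1) → c.C) yv :=
    HilbProj18.IsCoord.of_injective Vk.val Subtype.val_injective (isCoord_prod hU evK e _ hu)
  let toV : Vk →+* V := { toFun := fun z => ⟨z.1, z.2⟩, map_one' := rfl, map_mul' := fun _ _ => rfl,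
                          map_zero' := rfl, map_add' := fun _ _ => rfl }
  let M : Ideal Vk := (IsLocalRing.maximalIdeal V).comap toV
  haveI : M.IsMaximal := Ideal.comap_isMaximal_of_surjective toV fun z => ⟨⟨z.1, z.2⟩, rfl⟩
  letI : Field (Vk ⧸ M) := Ideal.Quotient.field M
  let L := Vk ⧸ M
  let res : Vk →ₐ[k] L := Ideal.Quotient.mkₐ k M
  have hres : ∀ z, res ⟨evK z, hmV z⟩ = algebraMap k L (ev z) := fun z => by
    rw [← res.commutes (ev z)]
    refine Ideal.Quotient.eq.2 ?_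
    show toV (_ - _) ∈ IsLocalRing.maximalIdeal V
    have hzm : z - algebraMap k c.C (ev z) ∈ RingHom.ker ev := by simp [RingHom.mem_ker]
    obtain ⟨hm, hmem⟩ := ValuationSubring.mem_nonunits_iff_exists_mem_maximalIdeal.1 (hnu _ hzm)
    convert hmem using 1
    refine Subtype.ext ?_
    show evK z - algebraMap k K (ev z) = evK (z - algebraMap k c.C (ev z))
    rw [map_sub, AlgHom.commutes]
  let lamL : c.C →ₗ[k] L :=
    { toFun := fun z => res (yv z (Fin.last n))
      map_add' := fun a b => by rw [hyv.add, map_add]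
      map_smul' := fun a b => by rw [hyv.smul, map_mul, AlgHom.commutes, RingHom.id_apply, Algebra.smul_def] }
  have hformL : IsForm β₀ xQ ev e lamL := by
    refine ⟨fun i => ?_, ?_, fun b hb z => ?_⟩
    · show res (yv (β₀ i) (Fin.last n)) = 0
      have := hyv.unit i.castSucc (Fin.last n)
      rw [Fin.snoc_castSucc, if_neg (Fin.castSucc_lt_last i).ne] at this
      rw [this, map_zero]
    · show res (yv e (Fin.last n)) = 1
      have := hyv.unit (Fin.last n) (Fin.last n)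
      rw [Fin.snoc_last, if_pos rfl] at this
      rw [this, map_one]
    · show res (yv (b * z) (Fin.last n)) = algebraMap k L (ev z) * res (yv b (Fin.last n))
      rw [← hres z, ← map_mul]
      congr 1
      refine Subtype.ext ?_
      show X (b * z) (Fin.last n) = evK z * X b (Fin.last n)
      have hbz : xQ (b * z) = 0 := (idealOf hQ).mul_mem_right z hb
      rw [hlast, hlast, hb, hbz]
      simp
      ring
  have hXL : (fun z i => res (yv z i)) = lineX xQ lamL := by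
    funext z i
    induction i using Fin.lastCases with
    | last => simp [lineX, lamL]
    | cast i =>
      rw [lineX, Fin.snoc_castSucc, ← res.commutes]
      congr 1
      refine Subtype.ext ?_
      show X z i.castSucc = algebraMap k K (xQ z i)
      simp [X, prodX_first, xU, he]
  obtain ⟨θ, hφ⟩ := LinearMap.exists_leftInverse_of_injective (Algebra.linearMap k L)
    (LinearMap.ker_eq_bot.2 (algebraMap k L).injective)
  have hθ1 : θ 1 = 1 := by simpa using LinearMap.congr_fun hφ 1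
  let lam₀ : c.C →ₗ[k] k := θ.comp lamL
  have hθ : ∀ (a : k) (l : L), θ (algebraMap k L a * l) = a * θ l := fun a l => by
    rw [← Algebra.smul_def, map_smul, smul_eq_mul]
  have hform₀ : IsForm β₀ xQ ev e lam₀ := by
    refine ⟨fun i => ?_, ?_, fun b hb z => ?_⟩
    · simp [lam₀, hformL.base]
    · simp [lam₀, hformL.one, hθ1]
    · show θ _ = algebraMap k k (ev z) * θ (lamL b)
      rw [hformL.mul b hb z, hθ]
      rfl
  have hy₀ := isCoord_line hQ he hform₀
  refine ⟨mor hZ c hy₀, ⟨c, β₀, xQ, hQ, ev, _, _, hy₀, rfl, rfl, rfl, ?_, ?_⟩, ?_⟩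
  · intro z hz
    funext i
    simpa [lineX] using congrFun (show lineX xQ lam₀ z = 0 from hz) i.castSucc
  · refine Ideal.mul_le.2 fun a ha b hb => ?_
    show lineX xQ lam₀ (a * b) = 0
    funext i
    induction i using Fin.lastCases with
    | last =>
      simp only [lineX, Fin.snoc_last, Pi.zero_apply]
      rw [mul_comm a b, hform₀.mul b hb a, RingHom.mem_ker.1 ha, map_zero, zero_mul]
    | cast i => simp [lineX, show xQ (a * b) = 0 from (idealOf hQ).mul_mem_left a hb]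
  have hκ : IsForm β₀ xQ ev e ((Algebra.ofId k L).toLinearMap.comp lam₀) := hform₀.smul_eval _
  have eL : c.F.homMap res ≫ mor hZ c hyv = mor hZ c (isCoord_line hQ he hformL) := mor_map hZ c hyv _ _ hXL
  have eK : c.F.homMap Vk.val ≫ mor hZ c hyv = mor hZ c (isCoord_prod hU evK e _ hu) := mor_map hZ c hyv _ _ rfl
  have e0 : c.F.homMap (Algebra.ofId k L) ≫ mor hZ c hy₀ = mor hZ c (isCoord_line hQ he hκ) :=
    mor_map hZ c hy₀ _ _ (lineX_map xQ lam₀ _)
  have s1 : Same (pt (mor hZ c hy₀)) ((mor hZ c (isCoord_line hQ he hκ)).left (⊥ : PrimeSpectrum L)) := by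
    rw [← e0]
    exact (same_map c (mor hZ c hy₀) _ _ _).symm
  have s2 := same_of_line hZ c hQ he hκ hformL
  have s3 : Same ((mor hZ c (isCoord_line hQ he hformL)).left (⊥ : PrimeSpectrum L))
      ((mor hZ c (isCoord_prod hU evK e _ hu)).left (⊥ : PrimeSpectrum K)) := by
    rw [← eL, ← eK]
    exact (same_map c (mor hZ c hyv) res ⊥ (PrimeSpectrum.comap res.toRingHom ⊥)).trans
      (same_map c (mor hZ c hyv) Vk.val ⊥ (PrimeSpectrum.comap res.toRingHom ⊥)).symm
  exact s1.trans (s2.trans s3)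

/-- Away from the new point, adding it is a morphism on a neighbourhood. -/
theorem exists_nhd_ext [IsAlgClosed k] (c : Ch f) {β₀ : Fin n → c.C} {xQ : c.C → Fin n → k}
    (hQ : IsCoord k β₀ xQ) (ev : c.C →ₐ[k] k) (hev : ¬ idealOf hQ ≤ RingHom.ker ev) :
    ∃ (O : H'.left.Opens) (g : O → H.left), Continuous g ∧ pt (mor hZ' c hQ) ∈ O ∧
      ∀ (q : TT (k := k) k ⟶ H') (hq : pt q ∈ O),
        ∃ a : TT (k := k) k ⟶ H, IsExt hZ hZ' q (c.at' ev) a ∧ g ⟨pt q, hq⟩ = pt a := by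
  obtain ⟨e, he, hne⟩ := Set.not_subset.1 hev
  let A := Univ k β₀
  let evA : c.C →ₐ[k] A := (Algebra.ofId k A).comp ev
  let D : A := evA e - ∑ i, univCoord k β₀ e i * evA (β₀ i)
  let A' := Localization.Away D
  let xU : c.C → Fin n → A' := fun z i => algebraMap A A' (univCoord k β₀ z i)
  let toA' : A →ₐ[k] A' := IsScalarTower.toAlgHom k A A'
  have hU : IsCoord k β₀ xU := (isCoord_univ k β₀).map toA'
  let ev' : c.C →ₐ[k] A' := toA'.comp evA
  obtain ⟨v, hv⟩ := IsLocalization.Away.algebraMap_isUnit (S := A') D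
  have hu : (↑v⁻¹ : A') * (ev' e - ∑ i, xU e i * ev' (β₀ i)) = 1 := by
    have : ev' e - ∑ i, xU e i * ev' (β₀ i) = algebraMap A A' D := by
      simp [D, xU, ev', toA']
    rw [this, ← hv, Units.inv_mul]
  -- the chart below
  obtain ⟨k₀, hk₀, hopen, -⟩ := exists_chartHom Z' hZ' c.F β₀
  have hk₀' : mor hZ' c (isCoord_univ k β₀) = k₀ := (eq_mor hZ' c _ _ hk₀).symm
  let m' := mor hZ' c hU
  have hm' : c.F.homMap toA' ≫ k₀ = m' := by rw [← hk₀']; exact mor_map hZ' c _ _ _ rfl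
  haveI : IsOpenImmersion m'.left := by
    rw [← hm', Over.comp_left]
    haveI : IsOpenImmersion (c.F.homMap toA').left :=
      inferInstanceAs (IsOpenImmersion (Spec.map (CommRingCat.ofHom (algebraMap A A'))))
    haveI := hopen
    infer_instance
  let m := mor hZ c (isCoord_prod hU ev' e _ hu)
  let φ := m'.left.isOpenEmbedding.isEmbedding.toHomeomorph
  let φA : PrimeSpectrum A' ≃ₜ Set.range m'.left := φ
  refine ⟨m'.left.opensRange, fun z => m.left (φ.symm z), m.left.continuous.comp φ.symm.continuous, ?_,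
    fun q hq => ?_⟩
  · -- the given point
    obtain ⟨θ₀, hθ₀, -⟩ := existsUnique_lift hQ
    have hθe : θ₀ (evA e) = ev e := θ₀.commutes (ev e)
    have hθD : IsUnit (θ₀ D) := by
      refine IsUnit.mk0 _ ?_
      simp only [D, map_sub, map_sum, map_mul, hθ₀, show xQ e = 0 from he, Pi.zero_apply, zero_mul,
        Finset.sum_const_zero, sub_zero, hθe]
      exact hne
    let θ : A' →ₐ[k] k := IsLocalization.Away.liftAlgHom D hθD
    have hθ : ∀ z, θ (algebraMap A A' z) = θ₀ z := fun z => IsLocalization.Away.lift_eq D (g := θ₀.toRingHom) hθD z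
    have : c.F.homMap θ ≫ m' = mor hZ' c hQ :=
      mor_map hZ' c hU θ hQ (funext fun z => funext fun i => (hθ _).trans (hθ₀ z i))
    rw [← this]
    exact ⟨_, rfl⟩
  -- the points nearby
  have hsub : Set.range q.left ⊆ Set.range m'.left := by
    rintro _ ⟨b, rfl⟩
    rw [show b = (⊥ : PrimeSpectrum k) from Subsingleton.elim (α := PrimeSpectrum k) _ _]
    exact hq
  let l : TT (k := k) k ⟶ TT (k := k) A' := Over.homMk (IsOpenImmersion.lift m'.left q.left hsub) (by
    rw [← Over.w m', IsOpenImmersion.lift_fac_assoc, Over.w q])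
  obtain ⟨θ, hθ⟩ := c.F.exists_homMap_eq l
  have hlq : c.F.homMap θ ≫ m' = q := Over.OverMorphism.ext (by
    rw [Over.comp_left, hθ]; exact IsOpenImmersion.lift_fac _ _ _)
  let xq : c.C → Fin n → k := fun z i => θ (xU z i)
  have hxq : IsCoord k β₀ xq := hU.map θ
  have hevk : ∀ z, θ (ev' z) = ev z := fun z => by
    show θ (toA' (algebraMap k A (ev z))) = ev z
    rw [AlgHom.commutes, AlgHom.commutes]
    rfl
  have hu' : θ ↑v⁻¹ * (ev e - ∑ i, xq e i * ev (β₀ i)) = 1 := by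
    have := congrArg θ hu
    simpa [hevk, xq] using this
  have hxp : (fun z i => θ (prodX β₀ xU ev' e ↑v⁻¹ z i)) = prodX β₀ xq ev e (θ ↑v⁻¹) := by
    funext z i
    induction i using Fin.lastCases with
    | last => simp [prodX_last, hevk, xq]
    | cast i => simp [prodX_first, prodX_last, hevk, xq]
  have hp := isCoord_prod hxq ev e _ hu'
  refine ⟨mor hZ c hp, ⟨c, β₀, xq, hxq, ev, _, _, hp, ?_, rfl, rfl, ?_, ?_⟩, ?_⟩
  · exact (mor_map hZ' c hU θ hxq rfl).symm.trans hlq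
  · exact fun z hz => ((prodX_eq_zero_iff hxq ev e _ hu' z).1 hz).1
  · refine Ideal.mul_le.2 fun a ha b hb => (prodX_eq_zero_iff hxq ev e _ hu' _).2 ⟨?_, ?_⟩
    · exact (idealOf hxq).mul_mem_left a hb
    · rw [map_mul, RingHom.mem_ker.1 ha, zero_mul]
  · rw [← mor_map hZ c (isCoord_prod hU ev' e _ hu) θ hp hxp]
    show m.left (φ.symm _) = m.left ((c.F.homMap θ).left (⊥ : PrimeSpectrum k))
    congr 1
    rw [Homeomorph.symm_apply_eq]
    refine Subtype.ext ?_
    exact congr($(hlq).left (⊥ : PrimeSpectrum k)).symm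

end Groth.Agent.HilbConn18
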