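import Groth.Agent.Lib.HilbConn18.Coord
import Groth.Agent.Lib.HilbRep25.Cover
import Mathlib.AlgebraicGeometry.AlgClosed.Basic
import Mathlib.AlgebraicGeometry.Morphisms.QuasiFinite

/-!
# Points of a Hilbert scheme of points in affine charts
-/

set_option autoImplicit false
set_option linter.unusedSectionVars false
set_option linter.style.haveILetI false
set_option backward.isDefEq.respectTransparency.types false

universe u

open CategoryTheory CategoryTheory.Limits AlgebraicGeometry
open scoped TensorProduct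

namespace Groth.Agent.HilbConn18

open Groth.Agent.HilbRep25 Groth.Agent.HilbProj18 Groth.Agent.PunctHilb18

variable {k : Type u} [Field k] {Y : Scheme.{u}}

/-- An affine chart over the ground field. -/
structure Ch (f : Y ⟶ Spec (CommRingCat.of k)) : Type (u + 1) where
  /-- the ring -/
  C : Type u
  [cr : CommRing C]
  [alg : Algebra k C]
  /-- the open -/
  u : Spec (CommRingCat.of C) ⟶ Y
  [op : IsOpenImmersion u]
  w : u ≫ f = Spec.map (CommRingCat.ofHom (algebraMap k C))

attribute [instance] Ch.cr Ch.alg Ch.op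

variable {f : Y ⟶ Spec (CommRingCat.of k)}

/-- The frame of a chart. -/
noncomputable abbrev Ch.F (c : Ch f) : Frame f k c.C where
  vA := 𝟙 _
  uC := c.u
  isOpen_vA := inferInstance
  isOpen_uC := inferInstance
  w := by rw [Category.comp_id]; exact c.w

/-- The affine scheme of an algebra over the ground field. -/
noncomputable abbrev TT (R : Type u) [CommRing R] [Algebra k R] : Over (Spec (CommRingCat.of k)) :=
  Over.mk (Spec.map (CommRingCat.ofHom (algebraMap k R)) ≫ 𝟙 _)

variable [IsSeparated f] {n : ℕ} {H : Over (Spec (CommRingCat.of k))} {Z : HilbD.Obj f n H}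
  (hZ : HilbD.IsUniversal f n H Z) (c : Ch f)

section

variable {R : Type u} [CommRing R] [Algebra k R] {β : Fin n → c.C} {x : c.C → Fin n → R}

/-- The morphism to the Hilbert scheme of coordinates. -/
noncomputable def mor (hx : IsCoord k β x) : TT R ⟶ H :=
  (hZ (TT R) (c.F.zOf hx)).exists.choose

theorem pull_mor (hx : IsCoord k β x) : HilbD.pull f (mor hZ c hx) Z.1 = (c.F.zOf hx).1 :=
  (hZ (TT R) (c.F.zOf hx)).exists.choose_spec

theorem eq_mor (hx : IsCoord k β x) (a : TT R ⟶ H) (h : HilbD.pull f a Z.1 = (c.F.zOf hx).1) :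
    a = mor hZ c hx :=
  HilbProj18.hom_ext Z hZ _ _ (h.trans (pull_mor hZ c hx).symm)

theorem mor_map (hx : IsCoord k β x) {R' : Type u} [CommRing R'] [Algebra k R'] (g : R →ₐ[k] R')
    {x' : c.C → Fin n → R'} (hx' : IsCoord k β x') (h : (fun z i => g (x z i)) = x') :
    c.F.homMap g ≫ mor hZ c hx = mor hZ c hx' := by
  subst h
  refine eq_mor hZ c hx' _ ?_
  rw [HilbBC25.pull_comp, pull_mor hZ c hx]
  exact c.F.pull_zOf g hx

end

theorem iota_ker_congr {X S : Scheme.{u}} {g : X ⟶ S} [IsSeparated g] {A C R : Type u} [CommRing A] [CommRing C]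
    [Algebra A C] (F : Frame g A C) [CommRing R] [Algebra A R] {J J' : Ideal (R ⊗[A] C)} (h : J = J') :
    (F.iota R ((Ideal.Quotient.mkₐ A J).comp Algebra.TensorProduct.includeRight)).ker =
      (F.iota R ((Ideal.Quotient.mkₐ A J').comp Algebra.TensorProduct.includeRight)).ker := by
  subst h; rfl

theorem mor_eq_of_coordIdeal {R : Type u} [CommRing R] [Algebra k R] {β β' : Fin n → c.C}
    {x x' : c.C → Fin n → R} (hx : IsCoord k β x) (hx' : IsCoord k β' x')
    (h : coordIdeal (A := k) β x = coordIdeal (A := k) β' x') : mor hZ c hx = mor hZ c hx' :=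
  eq_mor hZ c hx' _ ((pull_mor hZ c hx).trans (iota_ker_congr c.F h))

/-- Passing to a smaller chart. -/
theorem exists_restrict {c' : Ch f} (ρ : c.C →ₐ[k] c'.C)
    (hρ : Spec.map (CommRingCat.ofHom ρ.toRingHom) ≫ c.u = c'.u) {R : Type u} [CommRing R] [Algebra k R]
    {β : Fin n → c.C} {x : c.C → Fin n → R} (hx : IsCoord k β x)
    (hsupp : ∀ p : PrimeSpectrum c.C, (∀ z, x z = 0 → z ∈ p.asIdeal) → c.u p ∈ Set.range c'.u) :
    ∃ (x' : c'.C → Fin n → R) (hx' : IsCoord k (fun i => ρ (β i)) x'),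
      (∀ z, x' (ρ z) = x z) ∧ mor hZ c' hx' = mor hZ c hx := by
  let Q := (R ⊗[k] c.C) ⧸ coordIdeal (A := k) β x
  let γ : c.C →ₐ[k] Q := coordMap (β := β) (x := x)
  have hrange : Set.range (Spec.map (CommRingCat.ofHom γ.toRingHom) ≫ c.u) ⊆ Set.range c'.u := by
    rintro _ ⟨q, rfl⟩
    rw [Scheme.Hom.comp_apply]
    refine hsupp _ fun z hz => ?_
    have : γ z = 0 := (coordBasis hx).repr.injective (Finsupp.ext fun i => by
      rw [repr_coordBasis hx, hz, map_zero]; rfl)
    show γ z ∈ (q : PrimeSpectrum Q).asIdeal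
    rw [this]; exact zero_mem _
  obtain ⟨φ, hφ⟩ := Spec.map_surjective (IsOpenImmersion.lift c'.u _ hrange)
  have hcomp : CommRingCat.ofHom ρ.toRingHom ≫ φ = CommRingCat.ofHom γ.toRingHom := by
    refine Spec.map_injective ?_
    rw [← cancel_mono c.u, Spec.map_comp, Category.assoc, hρ, hφ, IsOpenImmersion.lift_fac]
  have hcomm : ∀ a, φ.hom (algebraMap k c'.C a) = algebraMap k Q a := fun a => by
    rw [← ρ.commutes a]
    exact (congr($(hcomp).hom (algebraMap k c.C a))).trans (γ.commutes a)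
  let γ' : c'.C →ₐ[k] Q := { φ.hom with commutes' := hcomm }
  have hγ' : ∀ z, γ' (ρ z) = γ z := fun z => congr($(hcomp).hom z)
  have hb : ∀ i, coordBasis hx i = γ' (ρ (β i)) := fun i => by
    rw [hγ', coordBasis_apply hx]; rfl
  refine ⟨_, isCoord_repr (β := fun i => ρ (β i)) γ' (coordBasis hx) hb, fun z => funext fun i => ?_, ?_⟩
  · show (coordBasis hx).repr (γ' (ρ z)) i = x z i
    rw [hγ', repr_coordBasis hx]
  · refine (eq_mor hZ c' _ _ ?_).symm
    rw [pull_mor hZ c hx]
    refine Eq.trans ?_ (c'.F.fam_eq_zOf (isCoord_repr (β := fun i => ρ (β i)) γ' (coordBasis hx) hb) γ'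
      (coordBasis hx) hb fun _ _ => rfl)
    show (c.F.iota R γ).ker = (c'.F.iota R γ').ker
    congr 1
    apply pullback.hom_ext
    · rw [Frame.iota_fst, Frame.iota_fst]
      show Spec.map _ ≫ c.u = Spec.map _ ≫ c'.u
      rw [← hρ, ← Spec.map_comp_assoc, show CommRingCat.ofHom γ'.toRingHom = φ from rfl, hcomp]
    · exact (c.F.iota_proj γ).trans (c'.F.iota_proj γ').symm

/-- Two maps out of a smaller chart agreeing on the bigger one are equal. -/
theorem algHom_ext_restrict {c' : Ch f} (ρ : c.C →ₐ[k] c'.C)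
    (hρ : Spec.map (CommRingCat.ofHom ρ.toRingHom) ≫ c.u = c'.u) {Q : Type u} [CommRing Q] [Algebra k Q]
    {g g' : c'.C →ₐ[k] Q} (h : ∀ z, g (ρ z) = g' (ρ z)) : g = g' := by
  have he : CommRingCat.ofHom g.toRingHom = CommRingCat.ofHom g'.toRingHom := by
    refine Spec.map_injective ?_
    rw [← cancel_mono c'.u, ← hρ, ← Spec.map_comp_assoc, ← Spec.map_comp_assoc]
    congr 2
    ext z
    exact h z
  exact AlgHom.ext fun z => congr($(he).hom z)

/-- The point of a chart of a rational point of its ring. -/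
noncomputable def Ch.at' (ev : c.C →ₐ[k] k) : Y :=
  c.u (⟨RingHom.ker ev, RingHom.ker_isPrime ev⟩ : PrimeSpectrum c.C)

theorem Ch.at_injective {ev ev' : c.C →ₐ[k] k} (h : c.at' ev = c.at' ev') : ev = ev' := by
  have h1 : RingHom.ker ev = RingHom.ker ev' := congrArg PrimeSpectrum.asIdeal (c.u.isOpenEmbedding.injective h)
  refine AlgHom.ext fun z => ?_
  have : z - algebraMap k c.C (ev z) ∈ RingHom.ker ev' := h1 ▸ by simp [RingHom.mem_ker]
  rw [RingHom.mem_ker, map_sub, AlgHom.commutes, Algebra.algebraMap_self, RingHom.id_apply, sub_eq_zero] at this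
  exact this.symm

theorem Ch.at_restrict {c' : Ch f} (ρ : c.C →ₐ[k] c'.C)
    (hρ : Spec.map (CommRingCat.ofHom ρ.toRingHom) ≫ c.u = c'.u) (ev : c'.C →ₐ[k] k) :
    c'.at' ev = c.at' (ev.comp ρ) := by
  show c'.u _ = c.u _
  rw [← hρ, Scheme.Hom.comp_apply]
  rfl

/-- A chart contained in another one. -/
theorem exists_hom (c' : Ch f) (h : Set.range c'.u ⊆ Set.range c.u) :
    ∃ ρ : c.C →ₐ[k] c'.C, Spec.map (CommRingCat.ofHom ρ.toRingHom) ≫ c.u = c'.u := by
  obtain ⟨φ, hφ⟩ := Spec.map_surjective (IsOpenImmersion.lift c.u c'.u h)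
  have h1 : CommRingCat.ofHom (algebraMap k c.C) ≫ φ = CommRingCat.ofHom (algebraMap k c'.C) := by
    refine Spec.map_injective ?_
    rw [Spec.map_comp, ← c.w, ← c'.w, hφ, IsOpenImmersion.lift_fac_assoc]
  exact ⟨{ φ.hom with commutes' := fun a => congr($(h1).hom a) }, by
    show Spec.map φ ≫ c.u = _
    rw [hφ, IsOpenImmersion.lift_fac]⟩

/-- An affine open is a chart. -/
theorem exists_ch (f : Y ⟶ Spec (CommRingCat.of k)) {U : Y.Opens} (hU : IsAffineOpen U) :
    ∃ c : Ch f, Set.range c.u = U := by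
  obtain ⟨φ, hφ⟩ := Spec.map_surjective (hU.fromSpec ≫ f)
  letI : Algebra k Γ(Y, U) := φ.hom.toAlgebra
  exact ⟨{ C := Γ(Y, U), u := hU.fromSpec, w := hφ.symm }, hU.range_fromSpec⟩

/-- A chart with a point has a rational point over it. -/
theorem exists_ev [IsAlgClosed k] [LocallyOfFiniteType f] {y : Y} (hy : IsClosed ({y} : Set Y))
    (hyc : y ∈ Set.range c.u) : ∃ ev : c.C →ₐ[k] k, c.at' ev = y := by
  let p := pointOfClosedPoint f y hy
  have hsub : Set.range p ⊆ Set.range c.u := by
    rintro _ ⟨a, rfl⟩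
    rw [pointOfClosedPoint_apply]
    exact hyc
  obtain ⟨φ, hφ⟩ := Spec.map_surjective (IsOpenImmersion.lift c.u p hsub)
  have h1 : CommRingCat.ofHom (algebraMap k c.C) ≫ φ = 𝟙 _ := by
    refine Spec.map_injective ?_
    rw [Spec.map_comp, ← c.w, hφ, IsOpenImmersion.lift_fac_assoc, pointOfClosedPoint_comp, Spec.map_id]
  refine ⟨{ φ.hom with commutes' := fun a => congr($(h1).hom a) }, ?_⟩
  have h2 : c.u (Spec.map φ (⊥ : PrimeSpectrum k)) = y := by
    rw [← Scheme.Hom.comp_apply, hφ, IsOpenImmersion.lift_fac]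
    exact pointOfClosedPoint_apply f y hy _
  rw [← h2]
  rfl

/-- Every rational point has coordinates in a chart through any finite set. -/
theorem exists_coord (hfin : ∀ E : Set Y, E.Finite → ∃ U : Y.Opens, IsAffineOpen U ∧ E ⊆ U)
    (a : TT (k := k) k ⟶ H) {E : Set Y} (hE : E.Finite) :
    ∃ (c : Ch f) (β : Fin n → c.C) (x : c.C → Fin n → k) (hx : IsCoord k β x),
      mor hZ c hx = a ∧ E ⊆ Set.range c.u := by
  let Za : HilbD.Obj f n (TT (k := k) k) := ⟨HilbD.pull f a Z.1, HilbBC25.isFinLocFreeOfDeg_pull f n a Z.1 Z.2⟩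
  haveI : IsFinite (Za.1.subschemeι ≫ PicF.XTproj f (TT (k := k) k)) := Za.2.1.1
  haveI : Subsingleton ↥(TT (k := k) k).left := inferInstanceAs (Subsingleton (PrimeSpectrum k))
  have hfinZ : Finite Za.1.subscheme := by
    refine Set.finite_univ_iff.1 ?_
    have := (Za.1.subschemeι ≫ PicF.XTproj f (TT (k := k) k)).finite_preimage_singleton (⊥ : PrimeSpectrum k)
    refine this.subset fun z _ => ?_
    exact Subsingleton.elim _ _
  obtain ⟨U, hU, hEU⟩ := hfin (E ∪ Set.range (Za.1.subschemeι ≫ pullback.fst f (TT (k := k) k).hom))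
    (hE.union (Set.finite_range _))
  obtain ⟨c, hc⟩ := exists_ch f hU
  obtain ⟨Q, i₁, i₂, i₃, i₄, γ, hQ, -, hrk, hcl, hker⟩ := c.F.exists_data Za fun z =>
    hc.ge (hEU (Or.inr ⟨z, rfl⟩))
  obtain rfl : i₂ = i₃ := Algebra.algebra_ext _ _ fun r => by
    have h := @IsScalarTower.algebraMap_apply k k Q _ _ _ _ i₃ i₂ i₄ r
    exact h
  have hdim : Module.finrank k Q = n := by
    have := hrk (⊥ : PrimeSpectrum k)
    rwa [Module.rankAtStalk_eq_finrank_of_free] at this
  have hsurj : Function.Surjective γ := fun q => by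
    obtain ⟨w, rfl⟩ := c.F.presentation_surjective_of_isClosedImmersion (R := k) γ q
    induction w using TensorProduct.induction_on with
    | zero => exact ⟨0, by simp⟩
    | tmul r z => exact ⟨r • z, by simp [presentation, Algebra.smul_def, ← IsScalarTower.algebraMap_apply]⟩
    | add a b ha hb =>
      obtain ⟨z, hz⟩ := ha
      obtain ⟨z', hz'⟩ := hb
      exact ⟨z + z', by rw [map_add, map_add, hz, hz']⟩
  let b : Module.Basis (Fin n) k Q := Module.finBasisOfFinrankEq k Q hdim
  choose β hβ using fun i => hsurj (b i)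
  refine ⟨c, β, _, isCoord_repr (β := β) γ b fun i => (hβ i).symm, (eq_mor hZ c _ a ?_).symm,
    fun y hy => hc.ge (hEU (Or.inl hy))⟩
  exact hker.symm.trans (c.F.fam_eq_zOf (isCoord_repr (β := β) γ b fun i => (hβ i).symm) γ b
    (fun i => (hβ i).symm) fun _ _ => rfl)

/-- The primes of a point are finitely many rational ones. -/
theorem finite_zeroLocus {β : Fin n → c.C} {x : c.C → Fin n → k} (hx : IsCoord k β x) :
    (PrimeSpectrum.zeroLocus (idealOf hx : Set c.C)).Finite := by
  haveI := (finite_quotient hx).1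
  haveI : IsArtinianRing (c.C ⧸ idealOf hx) := IsArtinianRing.of_finite k _
  have h : PrimeSpectrum.zeroLocus (idealOf hx : Set c.C) =
      Set.range (PrimeSpectrum.comap (Ideal.Quotient.mk (idealOf hx))) := by
    rw [range_comap_of_surjective _ _ Ideal.Quotient.mk_surjective, Ideal.mk_ker]
  rw [h]
  exact Set.finite_range _

end Groth.Agent.HilbConn18
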