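import Groth.Agent.Lib.HilbConn18.Frame
import Groth.Agent.Lib.HilbProj18.Charts

/-!
# Hilbert schemes of points over a field are locally of finite type
-/

set_option autoImplicit false
set_option linter.unusedSectionVars false
set_option linter.style.haveILetI false
set_option backward.isDefEq.respectTransparency.types false

universe u

open CategoryTheory CategoryTheory.Limits AlgebraicGeometry
open scoped TensorProduct

namespace Groth.Agent.HilbConn18

open Groth.Agent.HilbRep25 Groth.Agent.HilbProj18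

variable {k : Type u} [Field k]

theorem finiteType_univ {C : Type u} [CommRing C] [Algebra k C] [Algebra.FiniteType k C] {n : ℕ} (β : Fin n → C) :
    Algebra.FiniteType k (Univ k β) := by
  obtain ⟨s, hs⟩ := (Algebra.FiniteType.out : (⊤ : Subalgebra k C).FG)
  have hx := isCoord_univ k β
  let gens : Set C := insert 1 (s : Set C)
  let G : Set C := gens ∪ Set.image2 (fun j z => β j * z) Set.univ gens
  have hG : G.Finite := (s.finite_toSet.insert 1).union (Set.finite_univ.image2 _ (s.finite_toSet.insert 1))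
  let T : Set (Univ k β) := Set.image2 (fun z i => univCoord k β z i) G Set.univ
  have hT : T.Finite := hG.image2 _ Set.finite_univ
  let P : Subalgebra k (Univ k β) := Algebra.adjoin k T
  have key : ∀ c : C, (∀ i, univCoord k β c i ∈ P) ∧ ∀ j i, univCoord k β (β j * c) i ∈ P := by
    intro c
    have hc : c ∈ Algebra.adjoin k (s : Set C) := by rw [hs]; trivial
    have hgen : ∀ z ∈ gens, (∀ i, univCoord k β z i ∈ P) ∧ ∀ j i, univCoord k β (β j * z) i ∈ P := fun z hz =>
      ⟨fun i => Algebra.subset_adjoin ⟨z, Or.inl hz, i, trivial, rfl⟩,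
        fun j i => Algebra.subset_adjoin ⟨β j * z, Or.inr ⟨j, trivial, z, hz, rfl⟩, i, trivial, rfl⟩⟩
    induction hc using Algebra.adjoin_induction with
    | mem z hz => exact hgen z (Set.mem_insert_of_mem _ hz)
    | algebraMap a =>
      have h1 := hgen 1 (Set.mem_insert _ _)
      rw [Algebra.algebraMap_eq_smul_one]
      refine ⟨fun i => ?_, fun j i => ?_⟩
      · rw [hx.smul]; exact P.mul_mem (P.algebraMap_mem a) (h1.1 i)
      · rw [mul_smul_comm, hx.smul]; exact P.mul_mem (P.algebraMap_mem a) (h1.2 j i)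
    | add a b _ _ ha hb =>
      refine ⟨fun i => ?_, fun j i => ?_⟩
      · rw [hx.add]; exact P.add_mem (ha.1 i) (hb.1 i)
      · rw [mul_add, hx.add]; exact P.add_mem (ha.2 j i) (hb.2 j i)
    | mul a b _ _ ha hb =>
      refine ⟨fun i => ?_, fun j i => ?_⟩
      · rw [hx.mul]; exact P.sum_mem fun q _ => P.mul_mem (ha.1 q) (hb.2 q i)
      · rw [← mul_assoc, hx.mul]; exact P.sum_mem fun q _ => P.mul_mem (ha.2 j q) (hb.2 q i)
  refine ⟨⟨hT.toFinset, ?_⟩⟩
  rw [Set.Finite.coe_toFinset, eq_top_iff]
  rintro w -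
  obtain ⟨p, rfl⟩ := Ideal.Quotient.mk_surjective w
  induction p using MvPolynomial.induction_on with
  | C a => exact P.algebraMap_mem a
  | add p q hp hq => rw [map_add]; exact P.add_mem hp hq
  | mul_X p t hp => rw [map_mul]; exact P.mul_mem hp ((key t.1).1 t.2)

variable {Y : Scheme.{u}} {f : Y ⟶ Spec (CommRingCat.of k)}

theorem Ch.finiteType (c : Ch f) [LocallyOfFiniteType f] : Algebra.FiniteType k c.C := by
  haveI : LocallyOfFiniteType (Spec.map (CommRingCat.ofHom (algebraMap k c.C))) := by
    rw [← c.w]; infer_instance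
  exact RingHom.finiteType_algebraMap.1 ((HasRingHomProperty.Spec_iff (P := @LocallyOfFiniteType)).1 this)

variable [IsSeparated f] {n : ℕ} {H : Over (Spec (CommRingCat.of k))} {Z : HilbD.Obj f n H}
  (hZ : HilbD.IsUniversal f n H Z)

include hZ in
/-- The Hilbert scheme is covered by its charts. -/
theorem exists_chart (hfin : ∀ E : Set Y, E.Finite → ∃ U : Y.Opens, IsAffineOpen U ∧ E ⊆ U) (h : H.left) :
    ∃ (c : Ch f) (β : Fin n → c.C) (m : TT (Univ k β) ⟶ H), IsOpenImmersion m.left ∧ h ∈ Set.range m.left := by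
  classical
  obtain ⟨φ, hφ⟩ := Spec.map_surjective (H.left.fromSpecResidueField h ≫ H.hom)
  let K := H.left.residueField h
  letI : Algebra k K := φ.hom.toAlgebra
  let a : TT (k := k) K ⟶ H := Over.homMk (H.left.fromSpecResidueField h) (by
    show _ = Spec.map φ ≫ 𝟙 _
    rw [Category.comp_id, hφ])
  let Za : HilbD.Obj f n (TT (k := k) K) := ⟨HilbD.pull f a Z.1, HilbBC25.isFinLocFreeOfDeg_pull f n a Z.1 Z.2⟩
  haveI : IsFinite (Za.1.subschemeι ≫ PicF.XTproj f (TT (k := k) K)) := Za.2.1.1
  haveI : Subsingleton ↥(TT (k := k) K).left := inferInstanceAs (Subsingleton (PrimeSpectrum K))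
  have hfinZ : Finite Za.1.subscheme := by
    refine Set.finite_univ_iff.1 ?_
    have := (Za.1.subschemeι ≫ PicF.XTproj f (TT (k := k) K)).finite_preimage_singleton (⊥ : PrimeSpectrum K)
    refine this.subset fun z _ => ?_
    exact Subsingleton.elim _ _
  obtain ⟨U, hU, hEU⟩ := hfin (Set.range (Za.1.subschemeι ≫ pullback.fst f (TT (k := k) K).hom))
    (Set.finite_range _)
  obtain ⟨c, hc⟩ := exists_ch f hU
  obtain ⟨Q, i₁, i₂, i₃, i₄, γ, hQ, -, hrk, hcl, hker⟩ := c.F.exists_data Za fun z =>
    hc.ge (hEU ⟨z, rfl⟩)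
  have hdim : Module.finrank K Q = n := by
    have := hrk (⊥ : PrimeSpectrum K)
    rwa [Module.rankAtStalk_eq_finrank_of_free] at this
  have hspan : Submodule.span K (Set.range γ) = ⊤ := by
    rw [eq_top_iff]
    rintro q -
    obtain ⟨w, rfl⟩ := c.F.presentation_surjective_of_isClosedImmersion (R := K) γ q
    induction w using TensorProduct.induction_on with
    | zero => simp
    | tmul r z =>
      have : presentation (R := K) γ (r ⊗ₜ z) = r • γ z := by simp [presentation, Algebra.smul_def]
      rw [this]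
      exact Submodule.smul_mem _ _ (Submodule.subset_span ⟨z, rfl⟩)
    | add a b ha hb => rw [map_add]; exact Submodule.add_mem _ ha hb
  obtain ⟨t, htγ, hts, hli⟩ := exists_linearIndependent K (Set.range γ)
  rw [hspan] at hts
  let b₀ : Module.Basis t K Q := Module.Basis.mk hli (by rw [Subtype.range_coe, hts])
  haveI : Finite t := Module.Finite.finite_basis b₀
  have hcard : Nat.card t = n := by rw [← Module.finrank_eq_nat_card_basis b₀, hdim]
  let e : t ≃ Fin n := Finite.equivFinOfCardEq hcard
  choose β hβ using fun i => htγ (e.symm i).2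
  have hb : ∀ i, b₀.reindex e i = γ (β i) := fun i => by
    rw [Module.Basis.reindex_apply, Module.Basis.mk_apply, hβ]
  have hco : c.F.HasCoord β Z a := ⟨_, isCoord_repr (β := β) γ (b₀.reindex e) hb,
    hker.symm.trans (c.F.fam_eq_zOf (isCoord_repr (β := β) γ (b₀.reindex e) hb) γ (b₀.reindex e) hb fun _ _ => rfl)⟩
  obtain ⟨m, -, hopen, hiff⟩ := exists_chartHom Z hZ c.F β
  obtain ⟨g, hg⟩ := (hiff a).2 hco
  refine ⟨c, β, m, hopen, g.left (⊥ : PrimeSpectrum K), ?_⟩
  rw [← Scheme.Hom.comp_apply, show g.left ≫ m.left = a.left from congrArg CommaMorphism.left hg]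
  exact Scheme.fromSpecResidueField_apply _ _

include hZ in
theorem locallyOfFiniteType_hilb [LocallyOfFiniteType f]
    (hfin : ∀ E : Set Y, E.Finite → ∃ U : Y.Opens, IsAffineOpen U ∧ E ⊆ U) : LocallyOfFiniteType H.hom := by
  choose c β m hm hmem using exists_chart hZ hfin
  let 𝒰 : H.left.OpenCover := Scheme.Cover.mkOfCovers H.left (fun h => (TT (Univ k (β h))).left) (fun h => (m h).left)
    (fun h => ⟨h, (hmem h).choose, (hmem h).choose_spec⟩) (fun h => hm h)
  refine IsZariskiLocalAtSource.of_openCover (P := @LocallyOfFiniteType) 𝒰 fun h => ?_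
  show LocallyOfFiniteType ((m h).left ≫ H.hom)
  rw [Over.w (m h)]
  haveI : Algebra.FiniteType k (c h).C := (c h).finiteType
  haveI : Algebra.FiniteType k (Univ k (β h)) := finiteType_univ (β h)
  haveI : LocallyOfFiniteType (Spec.map (CommRingCat.ofHom (algebraMap k (Univ k (β h))))) :=
    (HasRingHomProperty.Spec_iff (P := @LocallyOfFiniteType)).2 (RingHom.finiteType_algebraMap.2 inferInstance)
  show LocallyOfFiniteType (Spec.map (CommRingCat.ofHom (algebraMap k (Univ k (β h)))) ≫ 𝟙 _)
  infer_instance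

end Groth.Agent.HilbConn18
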