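import Groth.Agent.Lib.HilbConn18.Ext
import Groth.Agent.Lib.HilbConn18.Lft
import Groth.Agent.Lib.CurveCartier25.Smooth
import Groth.Agent.S1166
import Mathlib.Topology.KrullDimension
import Mathlib.Topology.JacobsonSpace

/-!
# Connectedness of Hilbert schemes of points
-/

set_option autoImplicit false
set_option linter.unusedSectionVars false
set_option linter.style.haveILetI false
set_option maxHeartbeats 800000
set_option backward.isDefEq.respectTransparency.types false

universe u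

open CategoryTheory CategoryTheory.Limits AlgebraicGeometry TopologicalSpace

namespace Groth.Agent.HilbConn18

open Groth.Agent.HilbRep25 Groth.Agent.HilbProj18 Groth.Agent.PunctHilb18

variable {k : Type u} [Field k] [IsAlgClosed k] {Y : Scheme.{u}} {f : Y ⟶ Spec (CommRingCat.of k)}
  [IsSeparated f] [LocallyOfFiniteType f]

theorem exists_pt {W : Over (Spec (CommRingCat.of k))} [LocallyOfFiniteType W.hom] {w : W.left}
    (hw : IsClosed ({w} : Set W.left)) : ∃ a : TT (k := k) k ⟶ W, pt a = w := by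
  refine ⟨Over.homMk (pointOfClosedPoint W.hom w hw) ?_, pointOfClosedPoint_apply W.hom w hw _⟩
  rw [pointOfClosedPoint_comp]
  show _ = Spec.map (CommRingCat.ofHom (algebraMap k k)) ≫ 𝟙 _
  rw [Category.comp_id, Algebra.algebraMap_self]
  exact (Spec.map_id _).symm

theorem isClosed_at (c : Ch f) (ev : c.C →ₐ[k] k) : IsClosed ({c.at' ev} : Set Y) := by
  let p₀ : Spec (CommRingCat.of k) ⟶ Y := Spec.map (CommRingCat.ofHom ev.toRingHom) ≫ c.u
  have hp : p₀ ≫ f = 𝟙 _ := by
    rw [Category.assoc, c.w, ← Spec.map_comp]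
    have hc : CommRingCat.ofHom (algebraMap k c.C) ≫ CommRingCat.ofHom ev.toRingHom = 𝟙 _ := by
      ext z
      simp
    rw [hc, Spec.map_id]
  haveI : IsClosedImmersion (p₀ ≫ f) := by rw [hp]; infer_instance
  haveI : IsClosedImmersion p₀ := IsClosedImmersion.of_comp p₀ f
  have hr : Set.range p₀ = {c.at' ev} := by
    refine Set.eq_singleton_iff_unique_mem.2 ⟨⟨(⊥ : PrimeSpectrum k), ?_⟩, ?_⟩
    · rw [Scheme.Hom.comp_apply]; rfl
    · rintro _ ⟨b, rfl⟩
      obtain rfl : b = (⊥ : PrimeSpectrum k) := Subsingleton.elim _ _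
      rw [Scheme.Hom.comp_apply]; rfl
  rw [← hr]
  exact p₀.isClosedEmbedding.isClosed_range

section step

variable {n : ℕ} {H H' : Over (Spec (CommRingCat.of k))} {Z : HilbD.Obj f (n + 1) H} {Z' : HilbD.Obj f n H'}
  (hZ : HilbD.IsUniversal f (n + 1) H Z) (hZ' : HilbD.IsUniversal f n H' Z')
  (hfin : ∀ E : Set Y, E.Finite → ∃ U : Y.Opens, IsAffineOpen U ∧ E ⊆ U) (hsep : Y.IsSeparated)
  [IsNoetherian Y] [ConnectedSpace Y]
  (hinf : ∀ E : Set Y, E.Finite → ∃ y : Y, IsClosed ({y} : Set Y) ∧ y ∉ E)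

include hinf in
theorem not_isClosed_generic {V : Set Y} (hV : V ∈ irreducibleComponents Y) {η : Y} (hη : IsGenericPoint η V) :
    ¬ IsClosed ({η} : Set Y) := fun hc => by
  have hVη : V = {η} := by rw [← hη.def, hc.closure_eq]
  have hfinC := NoetherianSpace.finite_irreducibleComponents (α := Y)
  let F : Set Y := ⋃ W ∈ irreducibleComponents Y \ {V}, W
  have hF : IsClosed F :=
    Set.Finite.isClosed_biUnion (hfinC.subset Set.sdiff_subset) fun W hW => isClosed_of_mem_irreducibleComponents W hW.1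
  have hηF : η ∉ F := fun h => by
    simp only [F, Set.mem_iUnion] at h
    obtain ⟨W, ⟨hW, hWV⟩, hηW⟩ := h
    exact hWV (le_antisymm (hV.2 hW.1 (hVη.le.trans (Set.singleton_subset_iff.2 hηW)))
      (hVη.le.trans (Set.singleton_subset_iff.2 hηW)))
  have hFc : F = ({η} : Set Y)ᶜ := by
    refine le_antisymm (fun x hx h => hηF ((Set.mem_singleton_iff.1 h : x = η) ▸ hx)) fun x hx => ?_
    simp only [F, Set.mem_iUnion]
    refine ⟨irreducibleComponent x, ⟨irreducibleComponent_mem_irreducibleComponents x, fun h => hx ?_⟩,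
      mem_irreducibleComponent⟩
    exact hVη.le (Set.mem_singleton_iff.1 h ▸ mem_irreducibleComponent)
  have hopen : IsOpen ({η} : Set Y) := by
    have := hF.isOpen_compl
    rwa [hFc, compl_compl] at this
  rcases isClopen_iff.1 (⟨hc, hopen⟩ : IsClopen ({η} : Set Y)) with h | h
  · exact Set.singleton_ne_empty η h
  · obtain ⟨y, -, hy⟩ := hinf {η} (Set.finite_singleton η)
    exact hy (h.ge (Set.mem_univ y))

include hZ hZ' hfin hsep hinf in
/-- On one component of `Y` the added point does not matter. -/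
theorem same_component (q : TT (k := k) k ⟶ H') {V : Set Y} (hV : V ∈ irreducibleComponents Y) {y y' : Y}
    (hy : IsClosed ({y} : Set Y)) (hy' : IsClosed ({y'} : Set Y)) (hyV : y ∈ V) (hy'V : y' ∈ V) :
    ∃ a a', IsExt hZ hZ' q y a ∧ IsExt hZ hZ' q y' a' ∧ Same (pt a) (pt a') := by
  obtain ⟨η, hη⟩ := QuasiSober.sober hV.1 (isClosed_of_mem_irreducibleComponents V hV)
  obtain ⟨c, β₀, xQ, hQ, rfl, hE⟩ := exists_coord hZ' hfin q (E := {y, y'}) (Set.toFinite _)
  haveI : IsNoetherianRing c.C := by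
    haveI := c.finiteType
    exact Algebra.FiniteType.isNoetherianRing k c.C
  obtain ⟨P, hP⟩ : η ∈ Set.range c.u :=
    (hη.specializes hyV).mem_open c.u.opensRange.2 (hE (Set.mem_insert _ _))
  let P' : PrimeSpectrum c.C := P
  haveI := P'.2
  obtain ⟨e₀, he₀, he₀P⟩ : ∃ e₀, xQ e₀ = 0 ∧ e₀ ∉ P'.asIdeal := by
    by_contra hcon
    push Not at hcon
    have hfinz := finite_zeroLocus c hQ
    haveI := (finite_quotient hQ).1
    haveI : IsArtinianRing (c.C ⧸ idealOf hQ) := IsArtinianRing.of_finite k _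
    haveI : P'.asIdeal.IsMaximal := by
      have : (P'.asIdeal.map (Ideal.Quotient.mk (idealOf hQ))).IsPrime :=
        Ideal.map_isPrime_of_surjective Ideal.Quotient.mk_surjective
          (by rw [Ideal.mk_ker]; exact fun z hz => hcon z hz)
      haveI := IsArtinianRing.isMaximal_of_isPrime (P'.asIdeal.map (Ideal.Quotient.mk (idealOf hQ)))
      have h2 := Ideal.comap_isMaximal_of_surjective (Ideal.Quotient.mk (idealOf hQ)) Ideal.Quotient.mk_surjective
        (K := P'.asIdeal.map (Ideal.Quotient.mk (idealOf hQ)))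
      rwa [Ideal.comap_map_of_surjective _ Ideal.Quotient.mk_surjective, ← RingHom.ker_eq_comap_bot, Ideal.mk_ker,
        sup_eq_left.2 (fun z hz => hcon z hz)] at h2
    obtain ⟨ev, hev⟩ : ∃ ev : c.C →ₐ[k] k, P'.asIdeal = RingHom.ker ev := by
      haveI := c.finiteType
      haveI : Algebra.FiniteType k (c.C ⧸ P'.asIdeal) :=
        Algebra.FiniteType.of_surjective (Ideal.Quotient.mkₐ k P'.asIdeal) Ideal.Quotient.mk_surjective
      letI := Ideal.Quotient.field P'.asIdeal
      haveI : Module.Finite k (c.C ⧸ P'.asIdeal) := finite_of_finite_type_of_isJacobsonRing k _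
      haveI : Algebra.IsIntegral k (c.C ⧸ P'.asIdeal) := Algebra.IsIntegral.of_finite k _
      have hbij := IsAlgClosed.algebraMap_bijective_of_isIntegral (k := k) (K := c.C ⧸ P'.asIdeal)
      refine ⟨((AlgEquiv.ofBijective (Algebra.ofId k (c.C ⧸ P'.asIdeal)) hbij).symm :
        (c.C ⧸ P'.asIdeal) →ₐ[k] k).comp (Ideal.Quotient.mkₐ k P'.asIdeal), ?_⟩
      ext z
      simp [RingHom.mem_ker, Ideal.Quotient.eq_zero_iff_mem]
    have : η = c.at' ev := by
      rw [← hP]
      show c.u P' = c.u _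
      exact congrArg _ (PrimeSpectrum.ext hev)
    exact not_isClosed_generic hinf hV hη (this ▸ isClosed_at c ev)
  obtain ⟨h, hh⟩ := same_generic hZ hZ' c hQ he₀ he₀P
  have key : ∀ y : Y, IsClosed ({y} : Set Y) → y ∈ V → y ∈ Set.range c.u →
      ∃ a, IsExt hZ hZ' (mor hZ' c hQ) y a ∧ Same (pt a) h := by
    intro y hy hyV hyc
    obtain ⟨ev, hev⟩ := exists_ev c hy hyc
    have hle : P'.asIdeal ≤ RingHom.ker ev := by
      have hsp : c.u P' ⤳ c.u (⟨RingHom.ker ev, RingHom.ker_isPrime ev⟩ : PrimeSpectrum c.C) := by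
        rw [show c.u P' = η from hP, show c.u _ = y from hev]
        exact hη.specializes hyV
      exact (PrimeSpectrum.le_iff_specializes P' _).2 (c.u.isOpenEmbedding.isInducing.specializes_iff.1 hsp)
    rw [← hev]
    exact hh ev hle
  obtain ⟨a, ha, sa⟩ := key y hy hyV (hE (Set.mem_insert _ _))
  obtain ⟨a', ha', sa'⟩ := key y' hy' hy'V (hE (Set.mem_insert_of_mem _ rfl))
  exact ⟨a, a', ha, ha', sa.trans sa'.symm⟩

include hZ hZ' hfin hsep hinf in
theorem exists_ext (q : TT (k := k) k ⟶ H') {y : Y} (hy : IsClosed ({y} : Set Y)) :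
    ∃ a, IsExt hZ hZ' q y a :=
  let ⟨a, _, ha, _, _⟩ := same_component hZ hZ' hfin hsep hinf q (irreducibleComponent_mem_irreducibleComponents y)
    hy hy mem_irreducibleComponent mem_irreducibleComponent
  ⟨a, ha⟩

include hZ hZ' hfin hsep hinf in
/-- The added point does not matter. -/
theorem same_of_point [JacobsonSpace Y] (q : TT (k := k) k ⟶ H') {y y' : Y}
    {a a' : TT (k := k) k ⟶ H} (hy : IsClosed ({y} : Set Y)) (hy' : IsClosed ({y'} : Set Y))
    (ha : IsExt hZ hZ' q y a) (ha' : IsExt hZ hZ' q y' a') : Same (pt a) (pt a') := by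
  suffices ∀ S : Set H.left, IsClopen S → ∀ (y y' : Y) (a a' : TT (k := k) k ⟶ H), IsClosed ({y} : Set Y) →
      IsClosed ({y'} : Set Y) → IsExt hZ hZ' q y a → IsExt hZ hZ' q y' a' → pt a ∈ S → pt a' ∈ S from
    fun S hS => ⟨this S hS y y' a a' hy hy' ha ha', this S hS y' y a' a hy' hy ha' ha⟩
  intro S hS y y' a a' hy hy' ha ha' haS
  let G : Prop → Set Y := fun p => ⋃ V ∈ {V ∈ irreducibleComponents Y |
    ∃ z ∈ V, IsClosed ({z} : Set Y) ∧ ∃ b, IsExt hZ hZ' q z b ∧ (pt b ∈ S ↔ p)}, V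
  have hG : ∀ p, IsClosed (G p) := fun p =>
    Set.Finite.isClosed_biUnion ((NoetherianSpace.finite_irreducibleComponents (α := Y)).subset fun V hV => hV.1)
      fun V hV => isClosed_of_mem_irreducibleComponents V hV.1
  have mem : ∀ (z : Y) b, IsClosed ({z} : Set Y) → IsExt hZ hZ' q z b → z ∈ G (pt b ∈ S) := fun z b hz hb => by
    simp only [G, Set.mem_iUnion]
    exact ⟨_, ⟨irreducibleComponent_mem_irreducibleComponents z, z, mem_irreducibleComponent, hz, b, hb, Iff.rfl⟩,
      mem_irreducibleComponent⟩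
  have uniq : ∀ (z : Y) b p, IsClosed ({z} : Set Y) → IsExt hZ hZ' q z b → z ∈ G p → (pt b ∈ S ↔ p) := by
    intro z b p hz hb hzG
    simp only [G, Set.mem_iUnion] at hzG
    obtain ⟨V, ⟨hV, w, hwV, hw, b', hb', hp⟩, hzV⟩ := hzG
    obtain ⟨d, d', hd, hd', hdd⟩ := same_component hZ hZ' hfin hsep hinf q hV hz hw hzV hwV
    exact (((same_of_isExt hZ hZ' hsep hb hd).trans hdd).trans (same_of_isExt hZ hZ' hsep hd' hb')) S hS |>.trans hp
  have hdisj : G True ∩ G False = ∅ := by
    by_contra hne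
    obtain ⟨z, hz, hzc⟩ := (jacobsonSpace_iff_locallyClosed.1 ‹_›) _ (Set.nonempty_iff_ne_empty.2 hne)
      ((hG True).inter (hG False)).isLocallyClosed
    obtain ⟨b, hb⟩ := exists_ext hZ hZ' hfin hsep hinf q hzc
    exact (uniq z b False hzc hb hz.2).1 ((uniq z b True hzc hb hz.1).2 trivial)
  have hcov : G True ∪ G False = Set.univ := by
    refine Set.eq_univ_of_forall fun x => ?_
    obtain ⟨z, hzV, hzc⟩ := (jacobsonSpace_iff_locallyClosed.1 ‹_›) (irreducibleComponent x)
      ⟨x, mem_irreducibleComponent⟩ isClosed_irreducibleComponent.isLocallyClosed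
    obtain ⟨b, hb⟩ := exists_ext hZ hZ' hfin hsep hinf q hzc
    have hV := irreducibleComponent_mem_irreducibleComponents x
    by_cases hbS : pt b ∈ S
    · left
      simp only [G, Set.mem_iUnion]
      exact ⟨_, ⟨hV, z, hzV, hzc, b, hb, by simp [hbS]⟩, mem_irreducibleComponent⟩
    · right
      simp only [G, Set.mem_iUnion]
      exact ⟨_, ⟨hV, z, hzV, hzc, b, hb, by simp [hbS]⟩, mem_irreducibleComponent⟩
  have hclopen : IsClopen (G True) := ⟨hG True, by
    have : G True = (G False)ᶜ := le_antisymm (fun x hx h => Set.eq_empty_iff_forall_notMem.1 hdisj x ⟨hx, h⟩)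
      fun x hx => (hcov.ge (Set.mem_univ x)).resolve_right hx
    rw [this]
    exact (hG False).isOpen_compl⟩
  rcases isClopen_iff.1 hclopen with h | h
  · exfalso
    have := mem y a hy ha
    rw [eq_true haS, h] at this
    exact this
  · exact (uniq y' a' True hy' ha' (h.ge (Set.mem_univ _))).2 trivial

include hZ hZ' hfin hsep hinf in
/-- All closed points of the next Hilbert scheme look alike. -/
theorem connected_step [JacobsonSpace Y] [LocallyOfFiniteType H.hom] [LocallyOfFiniteType H'.hom]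
    (hH' : ConnectedSpace H'.left) : ConnectedSpace H.left := by
  haveI : JacobsonSpace H.left := LocallyOfFiniteType.jacobsonSpace H.hom
  haveI : JacobsonSpace H'.left := LocallyOfFiniteType.jacobsonSpace H'.hom
  -- each point is an extension
  have hext : ∀ a : TT (k := k) k ⟶ H, ∃ q y, IsClosed ({y} : Set Y) ∧ IsExt hZ hZ' q y a := fun a => by
    obtain ⟨c, β, x, hx, rfl, -⟩ := exists_coord hZ hfin a (E := ∅) Set.finite_empty
    obtain ⟨β₀, xQ, hQ, ev, h1, h2, -⟩ := exists_sub hx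
    exact ⟨_, _, isClosed_at c ev, c, β₀, xQ, hQ, ev, β, x, hx, rfl, rfl, rfl, h1, h2⟩
  obtain ⟨h₀⟩ := hH'.toNonempty
  obtain ⟨w₀, -, hw₀⟩ := (jacobsonSpace_iff_locallyClosed.1 ‹JacobsonSpace H'.left›) Set.univ ⟨h₀, trivial⟩
    isClosed_univ.isLocallyClosed
  obtain ⟨q₀, -⟩ := exists_pt hw₀
  obtain ⟨y₀, hy₀, -⟩ := hinf ∅ Set.finite_empty
  obtain ⟨a₀, ha₀⟩ := exists_ext hZ hZ' hfin hsep hinf q₀ hy₀
  suffices key : ∀ (S : Set H.left), IsClopen S → pt a₀ ∈ S → ∀ a : TT (k := k) k ⟶ H, pt a ∈ S by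
    haveI : Nonempty H.left := ⟨pt a₀⟩
    haveI : PreconnectedSpace H.left := by
      refine preconnectedSpace_iff_clopen.2 fun S hS => ?_
      by_cases h : pt a₀ ∈ S
      · right
        by_contra hne
        obtain ⟨w, hw, hwc⟩ := (jacobsonSpace_iff_locallyClosed.1 ‹JacobsonSpace H.left›) Sᶜ
          (Set.nonempty_compl.2 hne) hS.compl.1.isLocallyClosed
        obtain ⟨a, rfl⟩ := exists_pt hwc
        exact hw (key S hS h a)
      · left
        by_contra hne
        obtain ⟨w, hw, hwc⟩ := (jacobsonSpace_iff_locallyClosed.1 ‹JacobsonSpace H.left›) S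
          (Set.nonempty_iff_ne_empty.2 hne) hS.1.isLocallyClosed
        obtain ⟨a, rfl⟩ := exists_pt hwc
        exact key Sᶜ hS.compl h a hw
    exact ⟨inferInstance⟩
  intro S hS hS₀ a
  -- the opens where the status is read off
  let good : H'.left.Opens → Prop → Prop := fun O p => ∃ (g : O → H.left) (y : Y), Continuous g ∧ IsClosed ({y} : Set Y) ∧
    ∀ (q : TT (k := k) k ⟶ H') (hq : pt q ∈ O), ∃ b, IsExt hZ hZ' q y b ∧ g ⟨pt q, hq⟩ = pt b ∧ (pt b ∈ S ↔ p)
  let T : Prop → Set H'.left := fun p => ⋃ O ∈ {O | good O p}, (O : Set H'.left)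
  have hT : ∀ p, IsOpen (T p) := fun p => isOpen_biUnion fun O _ => O.2
  have hmem : ∀ q : TT (k := k) k ⟶ H', pt q ∈ T True ∪ T False := by
    intro q
    obtain ⟨c, β₀, xQ, hQ, rfl, -⟩ := exists_coord hZ' hfin q (E := ∅) Set.finite_empty
    obtain ⟨y, hy, hyE⟩ := hinf _ ((finite_zeroLocus c hQ).image c.u)
    -- a chart through the support and the new point
    obtain ⟨c', β', xQ', hQ', hq', hE'⟩ := exists_coord hZ' hfin (mor hZ' c hQ) (E := {y}) (Set.finite_singleton y)
    obtain ⟨ev, hev⟩ := exists_ev c' hy (hE' rfl)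
    have hnle : ¬ idealOf hQ' ≤ RingHom.ker ev := fun hle => hyE (by
      rw [← range_eq_of_mor_eq hZ' hQ' hQ hq', ← hev]
      exact ⟨_, hle, rfl⟩)
    obtain ⟨O, g, hg, hqO, hO⟩ := exists_nhd_ext hZ hZ' c' hQ' ev hnle
    rw [hq'] at hqO
    rw [hev] at hO
    obtain ⟨b, hb, hgb⟩ := hO _ hqO
    -- shrink to where the status is constant
    let O' : H'.left.Opens := ⟨Subtype.val '' (g ⁻¹' {z | z ∈ S ↔ pt b ∈ S}), O.2.isOpenMap_subtype_val _ (by
      refine hg.isOpen_preimage _ ?_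
      by_cases hbS : pt b ∈ S
      · simpa [hbS] using hS.2
      · simp only [hbS, iff_false]
        exact hS.compl.2)⟩
    have hle : O' ≤ O := fun z ⟨w, _, hw⟩ => hw ▸ w.2
    have hgood : good O' (pt b ∈ S) := by
      refine ⟨fun z => g ⟨z.1, hle z.2⟩, y, hg.comp (continuous_subtype_val.subtype_mk _), hy, fun q hq => ?_⟩
      obtain ⟨b', hb', hgb'⟩ := hO q (hle hq)
      refine ⟨b', hb', hgb', ?_⟩
      obtain ⟨w, hw, hwq⟩ := hq
      rw [← hgb']
      have e : w = ⟨pt q, hle ⟨w, hw, hwq⟩⟩ := Subtype.ext hwq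
      have hw' := hw
      rw [e] at hw'
      exact hw'
    have hin : pt (mor hZ' c hQ) ∈ O' := ⟨⟨_, hqO⟩, by show _ ↔ _; rw [hgb], rfl⟩
    by_cases hbS : pt b ∈ S
    · exact Or.inl (Set.mem_biUnion (x := O') (by simpa [hbS] using hgood) hin)
    · exact Or.inr (Set.mem_biUnion (x := O') (by simpa [hbS] using hgood) hin)
  have hval : ∀ (q : TT (k := k) k ⟶ H') p, pt q ∈ T p →
      ∀ y b, IsClosed ({y} : Set Y) → IsExt hZ hZ' q y b → (pt b ∈ S ↔ p) := by
    intro q p hq y b hy hb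
    simp only [T, Set.mem_iUnion] at hq
    obtain ⟨O, ⟨g, y', -, hy', hg⟩, hqO⟩ := hq
    obtain ⟨b', hb', -, hp⟩ := hg q hqO
    exact (same_of_point hZ hZ' hfin hsep hinf q hy hy' hb hb' S hS).trans hp
  have hcov : T True ∪ T False = Set.univ := by
    by_contra hne
    obtain ⟨w, hw, hwc⟩ := (jacobsonSpace_iff_locallyClosed.1 ‹JacobsonSpace H'.left›) (T True ∪ T False)ᶜ
      (Set.nonempty_compl.2 hne) ((hT True).union (hT False)).isClosed_compl.isLocallyClosed
    obtain ⟨q, rfl⟩ := exists_pt hwc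
    exact hw (hmem q)
  have hdisj : T True ∩ T False = ∅ := by
    by_contra hne
    obtain ⟨w, hw, hwc⟩ := (jacobsonSpace_iff_locallyClosed.1 ‹JacobsonSpace H'.left›) (T True ∩ T False)
      (Set.nonempty_iff_ne_empty.2 hne) ((hT True).inter (hT False)).isLocallyClosed
    obtain ⟨q, rfl⟩ := exists_pt hwc
    obtain ⟨y, hy, -⟩ := hinf ∅ Set.finite_empty
    obtain ⟨b, hb⟩ := exists_ext hZ hZ' hfin hsep hinf q hy
    exact (hval q False hw.2 y b hy hb).1 ((hval q True hw.1 y b hy hb).2 trivial)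
  have hclopen : IsClopen (T True) := ⟨by
    have : T True = (T False)ᶜ := le_antisymm (fun x hx h => Set.eq_empty_iff_forall_notMem.1 hdisj x ⟨hx, h⟩)
      fun x hx => (hcov.ge (Set.mem_univ x)).resolve_right hx
    rw [this]
    exact (hT False).isClosed_compl, hT True⟩
  obtain ⟨q, y, hy, ha⟩ := hext a
  rcases isClopen_iff.1 hclopen with h | h
  · exfalso
    have hq₀ : pt q₀ ∈ T False := (hcov.ge (Set.mem_univ _)).resolve_left fun h' => by
      rw [h] at h'; exact h'
    exact (hval q₀ False hq₀ y₀ a₀ hy₀ ha₀).1 hS₀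
  · exact (hval q True (h.ge (Set.mem_univ _)) y a hy ha).2 trivial

end step

/-- Hilbert schemes of points are connected. -/
theorem connected_hilb [ConnectedSpace Y] [IsNoetherian Y] [JacobsonSpace Y] (hsep : Y.IsSeparated)
    (hfin : ∀ E : Set Y, E.Finite → ∃ U : Y.Opens, IsAffineOpen U ∧ E ⊆ U)
    (hinf : ∀ E : Set Y, E.Finite → ∃ y : Y, IsClosed ({y} : Set Y) ∧ y ∉ E) :
    ∀ (n : ℕ) (H : Over (Spec (CommRingCat.of k))) (Z : HilbD.Obj f n H), HilbD.IsUniversal f n H Z →
      ConnectedSpace H.left := by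
  intro n
  induction n with
  | zero =>
    intro H Z hZ
    have huniq : ∀ {T : Over (Spec (CommRingCat.of k))} (a b : T ⟶ H), a = b := fun a b =>
      HilbProj18.hom_ext Z hZ a b
        ((CurveCartier25.eq_top_of_deg_zero _ _ (HilbBC25.isFinLocFreeOfDeg_pull f 0 a Z.1 Z.2)).trans
          (CurveCartier25.eq_top_of_deg_zero _ _ (HilbBC25.isFinLocFreeOfDeg_pull f 0 b Z.1 Z.2)).symm)
    obtain ⟨U, hU, -⟩ := hfin ∅ Set.finite_empty
    obtain ⟨c, -⟩ := exists_ch f hU
    have hx : IsCoord k (Fin.elim0 : Fin 0 → c.C) (fun _ i => (i.elim0 : k)) :=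
      ⟨fun _ _ i => i.elim0, fun _ _ i => i.elim0, fun _ i => i.elim0, fun _ _ i => i.elim0⟩
    let u₀ := mor hZ c hx
    let h : H ⟶ TT (k := k) k := Over.homMk H.hom (by
      show H.hom ≫ Spec.map (CommRingCat.ofHom (algebraMap k k)) ≫ 𝟙 _ = _
      rw [Category.comp_id, Algebra.algebraMap_self]
      erw [Spec.map_id, Category.comp_id])
    have hid : h ≫ u₀ = 𝟙 H := huniq _ _
    haveI : Nonempty H.left := ⟨pt u₀⟩
    haveI : Subsingleton H.left := ⟨fun a b => by
      have key : ∀ w : H.left, w = pt u₀ := fun w => by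
        have : u₀.left (h.left w) = w := congr($(hid).left w)
        rw [← this]
        exact congrArg _ (Subsingleton.elim (α := PrimeSpectrum k) _ _)
      rw [key a, key b]⟩
    exact ⟨inferInstance⟩
  | succ n ih =>
    intro H Z hZ
    obtain ⟨H', Z', hZ'⟩ := S1166.result f n fun s x _ => by
      obtain ⟨U, hU, hE⟩ := hfin (Set.range x) (Set.finite_range x)
      exact ⟨U, hU, fun i => hE ⟨i, rfl⟩⟩
    haveI := locallyOfFiniteType_hilb hZ hfin
    haveI := locallyOfFiniteType_hilb hZ' hfin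
    exact connected_step hZ hZ' hfin hsep hinf (ih H' Z' hZ')

end Groth.Agent.HilbConn18
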